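import Mathlib
import Cfsg.Agent.Lib.Char.Kernel
import Cfsg.Agent.Lib.Char.Induced
import Cfsg.Prelude.Def_ParabolicCharacters
import Cfsg.Agent.Lib.GLFlags.PermChar

/-!
Fixed spaces of subgroups in a complex representation, and the rank-one step in the uniqueness of
the Steinberg character: if `W` is spanned by `K` and the `q` translates `x_s n K`, and has
dimension `q · dim K`, then the torus elements fix `K` and the line sums vanish.
-/

set_option autoImplicit false

open Module Finset CfsgLib.CharKernel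

namespace CfsgLib.FixSum

variable {G : Type*} [Group G] {V : Type*} [AddCommGroup V] [Module ℂ V]
  (ρ : Representation ℂ G V)

theorem apply_apply (g h : G) (v : V) : ρ g (ρ h v) = ρ (g * h) v := by rw [map_mul]; rfl

theorem span_translates [ρ.IsIrreducible] {v : V} (hv : v ≠ 0) :
    Submodule.span ℂ (Set.range fun g => ρ g v) = ⊤ := by
  refine (eq_bot_or_eq_top ρ _ fun g w hw => ?_).resolve_left fun h => hv ?_
  · refine (Submodule.span_le (p := (Submodule.span ℂ (Set.range fun g => ρ g v)).comap (ρ g))).mpr ?_ hw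
    rintro _ ⟨h, rfl⟩
    exact Submodule.subset_span ⟨g * h, by simp [← Module.End.mul_apply, ← map_mul]⟩
  · have : v ∈ Submodule.span ℂ (Set.range fun g => ρ g v) := Submodule.subset_span ⟨1, by simp⟩
    rwa [h, Submodule.mem_bot] at this

theorem fixed_conj {H : Subgroup G} {g : G} (hg : g ∈ Subgroup.normalizer (H : Set G)) {v : V}
    (hv : v ∈ fixedSpace ρ H) : ρ g v ∈ fixedSpace ρ H := by
  rw [mem_fixedSpace] at hv ⊢
  intro h hh
  have h1 : g⁻¹ * h * g ∈ H := by
    have := (Subgroup.mem_normalizer_iff.1 (inv_mem hg) h).1 hh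
    simpa using this
  rw [apply_apply ρ, show h * g = g * (g⁻¹ * h * g) by group, ← apply_apply ρ, hv _ h1]

section finite
variable [Finite G]

/-- The projection onto the fixed space. -/
noncomputable def avgH (H : Subgroup G) : V →ₗ[ℂ] V :=
  letI := Fintype.ofFinite H
  (Nat.card H : ℂ)⁻¹ • ∑ h : H, ρ (h : G)

theorem avgH_mem (H : Subgroup G) (v : V) : avgH ρ H v ∈ fixedSpace ρ H := by
  classical
  letI := Fintype.ofFinite H
  refine (mem_fixedSpace ρ).mpr fun g hg => ?_
  simp only [avgH, LinearMap.smul_apply, LinearMap.sum_apply, map_smul, map_sum]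
  refine congrArg _ (Fintype.sum_equiv (Equiv.mulLeft ⟨g, hg⟩) _ _ fun u => ?_)
  simp [← Module.End.mul_apply, ← map_mul]

theorem avgH_fix (H : Subgroup G) {v : V} (hv : v ∈ fixedSpace ρ H) : avgH ρ H v = v := by
  classical
  letI := Fintype.ofFinite H
  rw [mem_fixedSpace] at hv
  simp only [avgH, LinearMap.smul_apply, LinearMap.sum_apply]
  rw [Finset.sum_congr rfl fun (u : H) _ => hv u u.2, Finset.sum_const, Finset.card_univ,
    ← Nat.cast_smul_eq_nsmul ℂ, smul_smul, Nat.card_eq_fintype_card,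
    inv_mul_cancel₀ (Nat.cast_ne_zero.2 Fintype.card_ne_zero), one_smul]

theorem avgH_comm (H : Subgroup G) {g : G} (hg : g ∈ Subgroup.normalizer (H : Set G)) (v : V) :
    avgH ρ H (ρ g v) = ρ g (avgH ρ H v) := by
  classical
  letI := Fintype.ofFinite H
  simp only [avgH, LinearMap.smul_apply, LinearMap.sum_apply, map_smul, map_sum]
  refine congrArg _ (Fintype.sum_bijective (fun u : H => (⟨g⁻¹ * u * g, by
    have := (Subgroup.mem_normalizer_iff.1 (inv_mem hg) (u : G)).1 u.2
    simpa using this⟩ : H)) ?_ _ _ fun u => ?_)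
  · refine Finite.injective_iff_bijective.mp fun u v h => Subtype.ext ?_
    simpa using congrArg Subtype.val h
  · simp [← Module.End.mul_apply, ← map_mul, mul_assoc]

variable [FiniteDimensional ℂ V]

theorem sum_character (H : Subgroup G) [Fintype H] :
    (Nat.card H : ℂ)⁻¹ * ∑ h : H, ρ.character (h : G) = (finrank ℂ (fixedSpace ρ H) : ℂ) := by
  set τ : Representation ℂ H V := ρ.comp H.subtype
  haveI : Invertible (Fintype.card H : ℂ) :=
    invertibleOfNonzero (Nat.cast_ne_zero.2 Fintype.card_ne_zero)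
  rw [show finrank ℂ (fixedSpace ρ H) = finrank ℂ (Representation.invariants τ) from rfl,
    ← (Representation.isProj_averageMap τ).trace]
  simp [Representation.averageMap, GroupAlgebra.average, Representation.character,
    map_sum, Representation.asAlgebraHom_of, Nat.card_eq_fintype_card, τ]

theorem finrank_vanishing {H : Subgroup G} (hv : ∀ u ∈ H, u ≠ 1 → ρ.character u = 0) :
    finrank ℂ V = Nat.card H * finrank ℂ (fixedSpace ρ H) := by
  classical
  haveI := Fintype.ofFinite H
  have h1 := sum_character ρ H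
  rw [Finset.sum_eq_single (1 : H) (fun (x : H) _ hne => hv (x : G) x.2 fun e => hne (Subtype.ext e))
    (by simp), OneMemClass.coe_one, Representation.char_one] at h1
  have h2 : (finrank ℂ V : ℂ) = (Nat.card H : ℂ) * (finrank ℂ (fixedSpace ρ H) : ℂ) := by
    rw [← h1, mul_inv_cancel_left₀ (Nat.cast_ne_zero.2 Nat.card_pos.ne')]
  exact_mod_cast h2

theorem classInner_perm [Fintype G] (H : Subgroup G) :
    Cfsg.classInner (Cfsg.fixedPointCharacter H) ρ.character = (finrank ℂ (fixedSpace ρ H) : ℂ) := by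
  classical
  rw [CfsgLib.GLFlags.fixedPointCharacter_eq_indFun, CfsgLib.Char.classInner_indFun]
  · rw [Cfsg.classInner]
    simp only [Pi.one_apply, one_mul]
    rw [← map_sum, ← sum_character ρ H]
    have h : ∀ c : ℂ, (Nat.card H : ℂ)⁻¹ * starRingEnd ℂ c = starRingEnd ℂ ((Nat.card H : ℂ)⁻¹ * c) := by
      intro c; simp
    rw [h, sum_character ρ H, Complex.conj_natCast]
  · exact fun g h => by rw [Representation.char_conj]

end finite

section step

variable {F : Type*} [Field F] [Fintype F] [FiniteDimensional ℂ V]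
  {K W : Submodule ℂ V} (x : F → G) (n : G) (e : F) (h : Fˣ → G)

/-- The rank-one step. -/
theorem rankOne_fix (he : e ≠ 0) (hx0 : x 0 = 1) (hxadd : ∀ a b, x a * x b = x (a + b))
    (hxK : ∀ s, ∀ z ∈ K, ρ (x s) z = z)
    (hA : ∀ z ∈ K, ∑ s, ρ (x s * n) z ∈ K)
    (hnn : ∀ z ∈ K, ρ (n * n) z ∈ K)
    (hh : ∀ c, ∀ z ∈ K, ρ (h c) z ∈ K) (hh1 : ∀ z ∈ K, ρ (h (-1)) z = z)
    (hrel : ∀ (c : Fˣ), ∀ z ∈ K, ρ n (ρ (x (e * (c : F)⁻¹) * n) z) = ρ (x (-(c : F)) * n) (ρ (h c) z))
    (hW : W ≤ Submodule.span ℂ ((K : Set V) ∪ {v | ∃ s, ∃ z ∈ K, v = ρ (x s * n) z}))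
    (hdim : finrank ℂ W = Fintype.card F * finrank ℂ K) {z : V} (hz : z ∈ K) :
    (∀ c, ρ (h c) z = z) ∧ z + ∑ s, ρ (x s * n) z = 0 := by
  classical
  let T : (F → K) →ₗ[ℂ] V :=
    { toFun := fun f => ∑ s, ρ (x s * n) (f s : V)
      map_add' := fun f g => by simp [Finset.sum_add_distrib]
      map_smul' := fun c f => by simp [Finset.smul_sum] }
  have hTapp : ∀ f, T f = ∑ s, ρ (x s * n) (f s : V) := fun f => rfl
  let fz : (w : V) → w ∈ K → F → K := fun w hw s =>
    if hs : s = 0 then ⟨∑ s, ρ (x s * n) w, hA w hw⟩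
    else -⟨ρ (h (Units.mk0 (-s) (neg_ne_zero.2 hs))) w, hh _ w hw⟩
  have key : ∀ (w : V) (hw : w ∈ K), T (fz w hw) = ρ (n * n) w := by
    intro w hw
    let σ : Fˣ ≃ {s : F // s ≠ 0} :=
      { toFun := fun c => ⟨e * (c : F)⁻¹, mul_ne_zero he (inv_ne_zero c.ne_zero)⟩
        invFun := fun s => Units.mk0 (e * (s : F)⁻¹) (mul_ne_zero he (inv_ne_zero s.2))
        left_inv := fun c => Units.ext (by
          show e * (e * (c : F)⁻¹)⁻¹ = c
          field_simp)
        right_inv := fun s => Subtype.ext (by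
          show e * (e * (s : F)⁻¹)⁻¹ = s
          field_simp) }
    let τ : Fˣ ≃ {s : F // s ≠ 0} :=
      { toFun := fun c => ⟨-(c : F), neg_ne_zero.2 c.ne_zero⟩
        invFun := fun s => Units.mk0 (-(s : F)) (neg_ne_zero.2 s.2)
        left_inv := fun c => Units.ext (by simp)
        right_inv := fun s => Subtype.ext (by simp) }
    have h1 : ρ n (∑ s, ρ (x s * n) w) =
        ρ (n * n) w + ∑ c : Fˣ, ρ (x (-(c : F)) * n) (ρ (h c) w) := by
      rw [map_sum, Finset.sum_eq_add_sum_sdiff_singleton_of_mem (Finset.mem_univ (0 : F)),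
        apply_apply ρ, hx0, one_mul]
      refine congrArg _ ?_
      rw [Finset.sum_subtype (p := fun s : F => s ≠ 0) _ (fun s => by simp)
        (fun s => ρ n (ρ (x s * n) w))]
      exact (Fintype.sum_equiv σ _ _ fun c => (hrel c w hw).symm).symm
    rw [hTapp, Finset.sum_eq_add_sum_sdiff_singleton_of_mem (Finset.mem_univ (0 : F))]
    have h2 : (fz w hw 0 : V) = ∑ s, ρ (x s * n) w := by simp [fz]
    rw [h2, hx0, one_mul, h1, Finset.sum_subtype (p := fun s : F => s ≠ 0) _ (fun s => by simp)
        (fun s => ρ (x s * n) (fz w hw s : V)), ← Fintype.sum_equiv τ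
        (fun c : Fˣ => -(ρ (x (-(c : F)) * n) (ρ (h c) w))) _ fun c => ?_]
    · rw [Finset.sum_neg_distrib, add_neg_cancel_right]
    · have e1 : ((τ c : {s : F // s ≠ 0}) : F) = -(c : F) := rfl
      rw [e1]
      simp only [fz, dif_neg (neg_ne_zero.2 c.ne_zero), Submodule.coe_neg, map_neg]
      congr 3
      rw [show Units.mk0 (- -(c : F)) (neg_ne_zero.2 (neg_ne_zero.2 c.ne_zero)) = c from Units.ext (neg_neg (c : F))]
  have hKT : K ≤ LinearMap.range T := by
    intro k hk
    let L : K →ₗ[ℂ] K := (ρ (n * n)).restrict hnn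
    have hL : Function.Injective L := fun a b hab => Subtype.ext (by
      have h1 : ρ (n * n) (a : V) = ρ (n * n) (b : V) := congrArg Subtype.val hab
      simpa [← Module.End.mul_apply, ← map_mul] using congrArg (ρ (n * n)⁻¹) h1)
    obtain ⟨⟨w, hw⟩, hwk⟩ := (LinearMap.injective_iff_surjective.1 hL) ⟨k, hk⟩
    exact ⟨fz w hw, (key w hw).trans (congrArg Subtype.val hwk)⟩
  have hTinj : Function.Injective T := by
    have hle : W ≤ LinearMap.range T := hW.trans (Submodule.span_le.2 (Set.union_subset hKT (by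
      rintro v ⟨s, k, hk, rfl⟩
      refine ⟨Pi.single s ⟨k, hk⟩, ?_⟩
      rw [hTapp, Finset.sum_eq_single s]
      · simp
      · intro t _ hts; simp [hts]
      · simp)))
    have h1 := Submodule.finrank_mono hle
    have h2 := LinearMap.finrank_range_add_finrank_ker T
    rw [Module.finrank_pi_fintype, Finset.sum_const, Finset.card_univ, smul_eq_mul] at h2
    rw [← LinearMap.ker_eq_bot]
    exact Submodule.finrank_eq_zero.1 (by omega)
  have hconst : ∀ (w : V) (hw : w ∈ K) (s : F), fz w hw s = fz w hw 0 := by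
    intro w hw u
    have h1 : T (fun s => fz w hw (s + u)) = T (fz w hw) := by
      have h2 : ρ (x u) (T (fun s => fz w hw (s + u))) = T (fz w hw) := by
        rw [hTapp, hTapp, map_sum]
        refine Fintype.sum_equiv (Equiv.addRight u) _ _ fun s => ?_
        rw [apply_apply ρ, ← mul_assoc, hxadd, add_comm u s]
        rfl
      have h3 : ρ (x u) (T (fz w hw)) = T (fz w hw) := by
        rw [key w hw]; exact hxK u _ (hnn w hw)
      have h4 := congrArg (ρ (x u)⁻¹) (h2.trans h3.symm)
      simpa [← Module.End.mul_apply, ← map_mul] using h4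
    simpa using congrFun (hTinj h1) 0
  have hneg : ∀ c, ρ (h c) z = -(∑ s, ρ (x s * n) z) := by
    intro c
    have h1 := congrArg (fun a : K => -(a : V)) (hconst z hz (-(c : F)))
    simpa [fz] using h1
  have hm1 := (hneg (-1)).symm.trans (hh1 z hz)
  refine ⟨fun c => by rw [hneg, hm1], ?_⟩
  conv_lhs => arg 1; rw [← hm1]
  rw [neg_add_cancel]

end step

end CfsgLib.FixSum
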