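import Cfsg.Agent.Lib.SLBlocks.Embed
import Cfsg.Agent.Lib.DerivedLen.Linear
import Cfsg.Agent.Lib.Blocks.SylowDefect
import Cfsg.Agent.Lib.Linear.Card

/-!
The defect groups of the blocks of `SL n` over a prime field: trivial or Sylow.
-/

set_option autoImplicit false

open Cfsg

namespace CfsgLib.SLBlocks

variable {p : ℕ} [hp : Fact p.Prime] {n : ℕ}

local notation "SLp" => Matrix.SpecialLinearGroup (Fin n) (ZMod p)
local notation "Vec" => Fin n → ZMod p

/-- The natural action on column vectors. -/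
def act : SLp →* Module.End (ZMod p) Vec where
  toFun g := (g : Matrix (Fin n) (Fin n) (ZMod p)).toLin'
  map_one' := by simp; rfl
  map_mul' g h := by simp [Matrix.toLin'_mul]; rfl

theorem act_inj : Function.Injective (act (p := p) (n := n)) := fun _ _ h =>
  Subtype.ext (Matrix.toLin'.injective h)

theorem act_mul_apply (g h : SLp) (x : Vec) : act (g * h) x = act g (act h x) := by
  rw [map_mul]; rfl

theorem act_one_apply (x : Vec) : act (1 : SLp) x = x := by rw [map_one]; rfl

theorem act_inv_apply (g : SLp) (x : Vec) : act g (act g⁻¹ x) = x := by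
  rw [← act_mul_apply, mul_inv_cancel, act_one_apply]

/-- The fixed vectors of a subgroup. -/
def fixVec (D : Subgroup SLp) : Submodule (ZMod p) Vec where
  carrier := {x | ∀ d ∈ D, act d x = x}
  zero_mem' := fun d _ => map_zero _
  add_mem' := fun ha hb d hd => by rw [map_add, ha d hd, hb d hd]
  smul_mem' := fun c x hx d hd => by rw [map_smul, hx d hd]

theorem fixVec_ne_bot (hn : 0 < n) {D : Subgroup SLp} (hD : IsPGroup p D) : fixVec D ≠ ⊥ := by
  haveI : Inhabited (Fin n) := ⟨⟨0, hn⟩⟩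
  haveI : Nontrivial Vec := Pi.nontrivial
  obtain ⟨v, hv, hfix⟩ := CfsgLib.DerivedLen.exists_fixed_mod hD (ZMod.natCast_self p)
    (act.comp D.subtype) ⊥ (fun g w hw => by
      rw [Submodule.mem_bot] at hw ⊢
      rw [hw, map_zero]) bot_ne_top
  intro h
  refine hv ?_
  have hmem : v ∈ fixVec D := fun d hd => sub_eq_zero.mp ((Submodule.mem_bot _).mp (hfix ⟨d, hd⟩))
  rwa [h] at hmem

theorem fixVec_ne_top {D : Subgroup SLp} (hD : D ≠ ⊥) : fixVec D ≠ ⊤ := fun h => hD <| by
  rw [Subgroup.eq_bot_iff_forall]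
  intro d hd
  refine act_inj (LinearMap.ext fun x => ?_)
  rw [act_one_apply]
  exact (h ▸ Submodule.mem_top : x ∈ fixVec D) d hd

/-- The elements trivial on a subspace and on its quotient. -/
def stabFlag (W : Submodule (ZMod p) Vec) : Subgroup SLp where
  carrier := {g | (∀ x ∈ W, act g x = x) ∧ ∀ x, act g x - x ∈ W}
  one_mem' := ⟨fun x _ => act_one_apply x, fun x => by rw [act_one_apply, sub_self]; exact W.zero_mem⟩
  mul_mem' := fun {g h} hg hh => ⟨fun x hx => by rw [act_mul_apply, hh.1 x hx, hg.1 x hx], fun x => by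
    rw [act_mul_apply, show act g (act h x) - x = (act g (act h x) - act h x) + (act h x - x) by abel]
    exact W.add_mem (hg.2 _) (hh.2 _)⟩
  inv_mem' := fun {g} hg => ⟨fun x hx => by
      conv_lhs => rw [← hg.1 x hx]
      rw [← act_mul_apply, inv_mul_cancel, act_one_apply], fun x => by
      have h := hg.2 (act g⁻¹ x)
      rw [act_inv_apply] at h
      rw [show act g⁻¹ x - x = -(x - act g⁻¹ x) by abel]
      exact W.neg_mem h⟩

theorem act_pow_unipotent {W : Submodule (ZMod p) Vec} {f : Module.End (ZMod p) Vec}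
    (h1 : ∀ x ∈ W, f x = x) (h2 : ∀ x, f x - x ∈ W) (k : ℕ) (x : Vec) :
    (f ^ k) x = x + k • (f x - x) := by
  induction k with
  | zero => simp
  | succ k ih =>
    rw [pow_succ', Module.End.mul_apply, ih, map_add, map_nsmul, h1 _ (h2 x), add_smul, one_smul]
    abel

theorem stabFlag_isPGroup (W : Submodule (ZMod p) Vec) : IsPGroup p (stabFlag W) := by
  intro g
  refine ⟨1, Subtype.ext (act_inj (LinearMap.ext fun x => ?_))⟩
  rw [pow_one, SubmonoidClass.coe_pow, map_pow, act_pow_unipotent g.2.1 g.2.2,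
    ← Nat.cast_smul_eq_nsmul (ZMod p), ZMod.natCast_self, zero_smul, add_zero]
  simp [act_one_apply]

theorem stabFlag_conj {W : Submodule (ZMod p) Vec} {x : SLp} (hx : ∀ v ∈ W, act x v ∈ W)
    (hx' : ∀ v ∈ W, act x⁻¹ v ∈ W) {g : SLp} (hg : g ∈ stabFlag W) :
    x * g * x⁻¹ ∈ stabFlag W := by
  refine ⟨fun v hv => ?_, fun v => ?_⟩
  · rw [act_mul_apply, act_mul_apply, hg.1 _ (hx' v hv), act_inv_apply]
  · rw [act_mul_apply, act_mul_apply]
    nth_rewrite 2 [← act_inv_apply x v]
    rw [← map_sub]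
    exact hx _ (hg.2 _)

theorem normalizer_le_stabFlag_normalizer (D : Subgroup SLp) :
    Subgroup.normalizer (D : Set SLp) ≤ Subgroup.normalizer (stabFlag (fixVec D) : Set SLp) := by
  have key : ∀ x ∈ Subgroup.normalizer (D : Set SLp), ∀ v ∈ fixVec D, act x v ∈ fixVec D := by
    intro x hx v hv d hd
    have h := (Subgroup.mem_normalizer_iff.mp (inv_mem hx) d).mp hd
    rw [inv_inv] at h
    rw [← act_mul_apply, show d * x = x * (x⁻¹ * d * x) by group, act_mul_apply, hv _ h]
  intro x hx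
  rw [Subgroup.mem_normalizer_iff]
  intro g
  refine ⟨stabFlag_conj (key x hx) (key x⁻¹ (inv_mem hx)), fun h => ?_⟩
  have h2 := stabFlag_conj (key x⁻¹ (inv_mem hx)) (by rw [inv_inv]; exact key x hx) h
  have e : x⁻¹ * (x * g * x⁻¹) * x⁻¹⁻¹ = g := by group
  rwa [e] at h2

/-- A regular element commuting with all elements trivial on a proper nonzero subspace and on
the quotient is central. -/
theorem mem_center_of_commute {W : Submodule (ZMod p) Vec} (hW0 : W ≠ ⊥) (hW1 : W ≠ ⊤) {g : SLp}
    (hreg : ¬ p ∣ orderOf g) (hcomm : ∀ s ∈ stabFlag W, Commute g s) :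
    g ∈ Subgroup.center SLp := by
  classical
  have htr : ∀ v ∈ W, ∀ f : Module.Dual (ZMod p) Vec, (∀ w ∈ W, f w = 0) → ∀ x,
      f x • act g v = f (act g x) • v := by
    intro v hv f hf x
    set T : Module.End (ZMod p) Vec := LinearMap.id + f.smulRight v with hT
    have hT1 : ∀ w ∈ W, T w = w := fun w hw => by simp [hT, hf w hw]
    have hT2 : ∀ w, T w - w ∈ W := fun w => by simp [hT, W.smul_mem _ hv]
    have hTp : T ^ p = 1 := LinearMap.ext fun w => by
      rw [act_pow_unipotent hT1 hT2, ← Nat.cast_smul_eq_nsmul (ZMod p), ZMod.natCast_self,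
        zero_smul, add_zero]
      rfl
    have hdet : (LinearMap.toMatrix' T).det = 1 := by
      have h := congrArg (fun U => (LinearMap.toMatrixAlgEquiv' U).det) hTp
      simp only [map_pow, Matrix.det_pow, map_one, Matrix.det_one, ZMod.pow_card] at h
      exact h
    set t : SLp := ⟨LinearMap.toMatrix' T, hdet⟩
    have hta : act t = T := Matrix.toLin'_toMatrix' T
    have ht : t ∈ stabFlag W := ⟨fun w hw => by rw [hta]; exact hT1 w hw, fun w => by
      rw [hta]; exact hT2 w⟩
    have h := congrArg (fun u => act u x) (hcomm t ht).eq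
    simp only [act_mul_apply, hta, hT, LinearMap.add_apply, LinearMap.id_apply,
      LinearMap.smulRight_apply, map_add, map_smul] at h
    exact add_left_cancel h
  obtain ⟨x₀, hx₀⟩ : ∃ x, x ∉ W := by
    by_contra h
    push Not at h
    exact hW1 (Submodule.eq_top_iff'.mpr h)
  obtain ⟨f₁, hf₁, hf₁W⟩ := Submodule.exists_dual_map_eq_bot_of_notMem hx₀ inferInstance
  set f₀ := (f₁ x₀)⁻¹ • f₁ with hf₀
  have hf₀W : ∀ w ∈ W, f₀ w = 0 := fun w hw => by
    have : f₁ w ∈ W.map f₁ := Submodule.mem_map_of_mem hw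
    rw [hf₁W, Submodule.mem_bot] at this
    simp [hf₀, this]
  have hf₀x : f₀ x₀ = 1 := by simp [hf₀, inv_mul_cancel₀ hf₁]
  set c := f₀ (act g x₀) with hc
  have hgW : ∀ v ∈ W, act g v = c • v := fun v hv => by
    have h := htr v hv f₀ hf₀W x₀
    rwa [hf₀x, one_smul] at h
  obtain ⟨v₀, hv₀, hv₀0⟩ := Submodule.exists_mem_ne_zero_of_ne_bot hW0
  have hquot : ∀ x, act g x - c • x ∈ W := by
    intro x
    by_contra h
    obtain ⟨f, hf, hfW⟩ := Submodule.exists_dual_map_eq_bot_of_notMem h inferInstance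
    have hfW' : ∀ w ∈ W, f w = 0 := fun w hw => by
      have : f w ∈ W.map f := Submodule.mem_map_of_mem hw
      rwa [hfW, Submodule.mem_bot] at this
    have h1 := htr v₀ hv₀ f hfW' x
    rw [hgW v₀ hv₀, smul_smul] at h1
    have h2 := smul_left_injective (ZMod p) hv₀0 h1
    refine hf ?_
    rw [map_sub, map_smul, smul_eq_mul, ← h2, mul_comm, sub_self]
  have hpow : ∀ k : ℕ, ∀ x, act (g ^ (k + 1)) x =
      c ^ (k + 1) • x + ((k + 1 : ℕ) * c ^ k) • (act g x - c • x) := by
    intro k
    induction k with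
    | zero => intro x; simp
    | succ k ih =>
      intro x
      rw [pow_succ' g, act_mul_apply, ih, map_add, map_smul, map_smul, hgW _ (hquot x)]
      push_cast
      module
  have hgp : g ^ p ∈ Subgroup.center SLp := by
    have hs : ∀ x, act (g ^ p) x = c ^ p • x := fun x => by
      have h := hpow (p - 1) x
      rw [Nat.sub_add_cancel hp.out.one_le, ZMod.natCast_self, zero_mul, zero_smul, add_zero] at h
      exact h
    refine Subgroup.mem_center_iff.mpr fun s => act_inj (LinearMap.ext fun x => ?_)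
    rw [act_mul_apply, act_mul_apply, hs, hs, map_smul]
  obtain ⟨m, hm⟩ := exists_pow_eq_self_of_coprime (hp.out.coprime_iff_not_dvd.mpr hreg)
  rw [← hm]
  exact pow_mem hgp m

theorem nonempty_sl : Finite SLp := Finite.of_injective _ Subtype.val_injective

attribute [local instance] nonempty_sl

/-- A regular element centralizing a nontrivial `p`-subgroup that contains the flag stabiliser is
central. -/
theorem mem_center_of_centralizer (hn : 0 < n) {D : Subgroup SLp} (hD : IsPGroup p D)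
    (hD0 : D ≠ ⊥) (hQ : stabFlag (fixVec D) ≤ D) {g : SLp} (hreg : ¬ p ∣ orderOf g)
    (hg : g ∈ Subgroup.centralizer (D : Set SLp)) : g ∈ Subgroup.center SLp :=
  mem_center_of_commute (fixVec_ne_bot hn hD) (fixVec_ne_top hD0) hreg
    fun s hs => (Subgroup.mem_centralizer_iff.mp hg s (hQ hs)).symm

theorem sup_isPGroup {D : Subgroup SLp} (hD : IsPGroup p D) :
    IsPGroup p (stabFlag (fixVec D) ⊔ D : Subgroup SLp) :=
  IsPGroup.to_sup_of_normal_left' (stabFlag_isPGroup _) hD
    (Subgroup.le_normalizer.trans (normalizer_le_stabFlag_normalizer D))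

theorem center_regular (hn : 0 < n) {z : SLp} (hz : z ∈ Subgroup.center SLp) : ¬ p ∣ orderOf z := by
  haveI : Nonempty (Fin n) := ⟨⟨0, hn⟩⟩
  intro h
  have h1 : orderOf z ∣ Nat.card (Subgroup.center SLp) := by
    have := orderOf_dvd_natCard (⟨z, hz⟩ : Subgroup.center SLp)
    rwa [Subgroup.orderOf_mk] at this
  rw [CfsgLib.Linear.card_center_SL, Fintype.card_fin, ZMod.card] at h1
  have h2 := Nat.le_of_dvd (by have := hp.out.two_le; omega) ((h.trans h1).trans (Nat.gcd_dvd_left _ _))
  have := hp.out.two_le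
  omega

/-- A regular element centralizing a Sylow subgroup is central. -/
theorem mem_center_of_sylow (hn : 0 < n) (P : Sylow p SLp) (hP : (P : Subgroup SLp) ≠ ⊥) {g : SLp}
    (hreg : ¬ p ∣ orderOf g) (hg : g ∈ Subgroup.centralizer ((P : Subgroup SLp) : Set SLp)) :
    g ∈ Subgroup.center SLp :=
  mem_center_of_centralizer hn P.2 hP
    (le_sup_left.trans (P.3 (sup_isPGroup P.2) le_sup_right).le) hreg hg

variable {M : Ideal AlgInt} [M.IsMaximal]

/-- The defect groups. -/
theorem defectGroup_cases (hn : 0 < n) (hM : IsPModular p M) {B : Set (IrrCharacter SLp)}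
    (hB : IsPBlock M B) {D : Subgroup SLp} (hBD : IsDefectGroup p M B D) :
    D = ⊥ ∨ ∀ P : Sylow p SLp, IsDefectGroup p M B (P : Subgroup SLp) := by
  classical
  refine or_iff_not_imp_left.mpr fun hD0 P => ?_
  have hD := CfsgLib.Blocks.isPGroup_defectGroup hBD
  obtain ⟨g, hg, hgD⟩ := (CfsgLib.Blocks.isDefectGroup_iff _).1 hBD
  have hreg : ¬ p ∣ orderOf g := fun h => hg.2.1 (by
    rw [CfsgLib.BlockReg.blockCoeff_singular hM hB g h]
    exact ⟨0, 1, M.zero_mem, fun h1 => hM.2.1.ne_top (M.eq_top_iff_one.mpr h1), by simp⟩)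
  set N := Subgroup.normalizer (D : Set SLp) with hN
  set R := stabFlag (fixVec D) ⊔ D with hR
  have hmap : ∀ x ∈ N, ∀ y ∈ R, x * y * x⁻¹ ∈ R := by
    intro x hx y hy
    have h1 := normalizer_le_stabFlag_normalizer D hx
    have hle : R.map (MulAut.conj x).toMonoidHom ≤ R := by
      rw [hR, Subgroup.map_sup]
      refine sup_le_sup ?_ ?_
      · rintro _ ⟨s, hs, rfl⟩
        exact (Subgroup.mem_normalizer_iff.mp h1 s).mp hs
      · rintro _ ⟨s, hs, rfl⟩
        exact (Subgroup.mem_normalizer_iff.mp hx s).mp hs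
    exact hle ⟨y, hy, rfl⟩
  have hcore : R ⊓ N ≤ D := by
    conv_rhs => rw [← CfsgLib.Blocks.map_pCore_normalizer_defectGroup hM hB hBD]
    haveI : (R.subgroupOf N).Normal := ⟨fun a ha b => hmap _ b.2 _ ha⟩
    intro x hx
    refine ⟨⟨x, hx.2⟩, CfsgLib.Solvable.le_pCore (inferInstance : (R.subgroupOf N).Normal)
      ((sup_isPGroup hD).comap_of_injective N.subtype N.subtype_injective) hx.1, rfl⟩
  have hRD : R ≤ D := by
    by_contra hne
    haveI : Group.IsNilpotent R := (sup_isPGroup hD).isNilpotent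
    have hlt : D.subgroupOf R < ⊤ := lt_top_iff_ne_top.mpr fun h => hne (Subgroup.subgroupOf_eq_top.mp h)
    obtain ⟨x, hxN, hxD⟩ := SetLike.exists_of_lt (Group.normalizerCondition_of_isNilpotent _ hlt)
    rw [Subgroup.mem_subgroupOf] at hxD
    refine hxD (hcore ⟨x.2, Subgroup.mem_normalizer_iff.mpr fun d => ⟨fun hd => ?_, fun hd => ?_⟩⟩)
    · exact (Subgroup.mem_normalizer_iff.mp hxN ⟨d, le_sup_right (α := Subgroup SLp) hd⟩).mp hd
    · have hd' : d ∈ R := by
        have := mul_mem (mul_mem (inv_mem x.2) (le_sup_right (α := Subgroup SLp) hd : _ ∈ R)) x.2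
        simpa [mul_assoc] using this
      exact (Subgroup.mem_normalizer_iff.mp hxN ⟨d, hd'⟩).mpr hd
  have hcen := mem_center_of_centralizer hn hD hD0 (le_sup_left.trans hRD) hreg hgD.mem_centralizer
  have htop : Subgroup.centralizer ({g} : Set SLp) = ⊤ := by
    refine (Subgroup.eq_top_iff' _).mpr fun x => Subgroup.mem_centralizer_singleton_iff.mpr ?_
    exact (Subgroup.mem_center_iff.mp hcen x)
  have hcard : Nat.card D = p ^ (Nat.card SLp).factorization p := by
    rw [hgD.card, htop, Subgroup.card_top]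
  obtain ⟨P₀, hP₀⟩ := hD.exists_le_sylow
  have heq : D = (P₀ : Subgroup SLp) := Subgroup.eq_of_le_of_card_ge hP₀
    (by rw [hcard, P₀.card_eq_multiplicity])
  obtain ⟨y, hy⟩ := MulAction.exists_smul_eq SLp P₀ P
  rw [← hy, show ((y • P₀ : Sylow p SLp) : Subgroup SLp) = D.map (MulAut.conj y).toMonoidHom by
    rw [heq]; rfl]
  exact CfsgLib.Blocks.IsDefectGroup.conj' hBD y

/-- The regular classes centralizing a Sylow subgroup correspond to the centre. -/
theorem card_classes_sylow (hn : 0 < n) (P : Sylow p SLp) (hP : (P : Subgroup SLp) ≠ ⊥) :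
    Nat.card {C : ConjClasses (Subgroup.normalizer ((P : Subgroup SLp) : Set SLp)) //
      ∀ x : Subgroup.normalizer ((P : Subgroup SLp) : Set SLp), ConjClasses.mk x = C →
        ¬ p ∣ orderOf x ∧ (x : SLp) ∈ Subgroup.centralizer ((P : Subgroup SLp) : Set SLp)} =
      Nat.gcd n (p - 1) := by
  haveI : Nonempty (Fin n) := ⟨⟨0, hn⟩⟩
  set N := Subgroup.normalizer ((P : Subgroup SLp) : Set SLp)
  have hZN : ∀ z ∈ Subgroup.center SLp, z ∈ N := fun z hz => Subgroup.mem_normalizer_iff.mpr fun y => by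
    rw [← Subgroup.mem_center_iff.mp hz y, mul_inv_cancel_right]
  have hconj : ∀ (z : SLp) (hz : z ∈ Subgroup.center SLp) (x : N),
      ConjClasses.mk x = ConjClasses.mk (⟨z, hZN z hz⟩ : N) → x = ⟨z, hZN z hz⟩ := by
    intro z hz x hx
    obtain ⟨c, hc⟩ := isConj_iff.mp (ConjClasses.mk_eq_mk_iff_isConj.mp hx.symm)
    refine hc.symm.trans (Subtype.ext ?_)
    show (c : SLp) * z * (c : SLp)⁻¹ = z
    rw [Subgroup.mem_center_iff.mp hz, mul_inv_cancel_right]
  have hZcard := CfsgLib.Linear.card_center_SL (n := Fin n) (F := ZMod p)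
  rw [Fintype.card_fin, ZMod.card] at hZcard
  rw [Nat.gcd_comm, ← hZcard]
  refine (Nat.card_eq_of_bijective (fun z : Subgroup.center SLp =>
    ⟨ConjClasses.mk (⟨z.1, hZN z.1 z.2⟩ : N), fun x hx => by
      rw [hconj z.1 z.2 x hx, Subgroup.orderOf_mk]
      exact ⟨center_regular hn z.2, Subgroup.center_le_centralizer _ z.2⟩⟩) ⟨?_, ?_⟩).symm
  · intro z w h
    exact Subtype.ext (congrArg (fun u : N => (u : SLp))
      (hconj w.1 w.2 _ (congrArg Subtype.val h)))
  · rintro ⟨C, hC⟩
    obtain ⟨x, rfl⟩ := ConjClasses.mk_surjective C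
    obtain ⟨h1, h2⟩ := hC x rfl
    rw [← Subgroup.orderOf_coe] at h1
    exact ⟨⟨x, mem_center_of_sylow hn P hP h1 h2⟩, rfl⟩

end CfsgLib.SLBlocks
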