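import Cfsg.Agent.Lib.SLBlocks.Embed

/-!
An irreducible character of `SL n` vanishing on the nontrivial unitriangular elements is the
Steinberg character.
-/

set_option autoImplicit false

open Module Finset CfsgLib.GLFlags CfsgLib.SteinbergChar CfsgLib.CharKernel

namespace CfsgLib.SteinbergChar.Datum

variable {n : ℕ} {F : Type*} [Field F] [Finite F] {H : Type*} [Group H] (D : Datum n F H)

/-- The construction on the flags of the group itself. -/
noncomputable def setup [Finite H] [Fintype (H ⧸ D.B)] : Setup H (H ⧸ D.B) where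
  decRel := fun i => Classical.decRel (D.rel i)
  U := D.U
  base := QuotientGroup.mk 1
  fix := fun _ hu => D.fix_base hu
  reach := fun f _ h0 => funext fun x => by
    obtain ⟨h, rfl⟩ := QuotientGroup.mk_surjective x
    have h1 := h0 h
    rwa [MulAction.Quotient.smul_mk, smul_eq_mul, mul_one] at h1
  ι := D.I
  rel := D.rel
  rel_equiv := D.rel_equiv
  rel_smul := fun i g _ _ h => D.rel_smul i g h
  top := D.pt Fin.revPerm
  free := fun _ hu h => D.smul_pt_rev hu h
  rank := fun x => ∑ k : Fin n, (k : ℕ) * (D.cellOf x k : ℕ)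
  descent := fun _ hx => D.descent hx
  e := D.e
  e_sum := fun i x => by
    classical
    convert D.e_sum i x
  e_supp := fun u hu hne => by
    refine D.e_eq_zero fun w hw h => hne ?_
    have hc : D.cellOf (u • D.pt Fin.revPerm) = Fin.revPerm := by
      obtain ⟨β, hβ, hl⟩ := D.lift_spec D.rev_mem
      rw [pt, MulAction.Quotient.smul_mk]
      refine D.cellOf_eq ?_
      rw [smul_eq_mul, map_mul, hl]
      exact (inCell_perm _ hβ).bor_mul (uni_le_bor hu)
    have he := congrArg D.cellOf h
    rw [hc, D.cellOf_pt hw] at he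
    subst he
    exact D.smul_pt_rev hu h
  e_top := by rw [D.e_pt D.rev_mem]; exact D.sgn_rev

end CfsgLib.SteinbergChar.Datum

namespace CfsgLib.SLBlocks

variable {n : ℕ} {F : Type*} [Field F] [Fintype F] {V : Type*} [AddCommGroup V] [Module ℂ V]
  [FiniteDimensional ℂ V] (ρ : Representation ℂ (Matrix.SpecialLinearGroup (Fin n) F) V)

local notation "SLn" => Matrix.SpecialLinearGroup (Fin n) F

theorem rho_mul_apply (g h : SLn) (v : V) : ρ g (ρ h v) = ρ (g * h) v := by
  rw [map_mul]; rfl

theorem finite_sl : Finite SLn := Finite.of_injective _ Subtype.val_injective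

attribute [local instance] finite_sl

theorem finrank_fixed {H : Subgroup SLn} (hv : ∀ u ∈ H, u ≠ 1 → ρ.character u = 0) :
    finrank ℂ V = Nat.card H * finrank ℂ (fixedSpace ρ H) := by
  classical
  haveI := Fintype.ofFinite H
  set τ : Representation ℂ H V := ρ.comp H.subtype
  haveI : Invertible (Fintype.card H : ℂ) :=
    invertibleOfNonzero (Nat.cast_ne_zero.2 Fintype.card_ne_zero)
  have h1 : (Nat.card H : ℂ)⁻¹ * ∑ h, τ.character h = finrank ℂ (Representation.invariants τ) := by
    rw [← (Representation.isProj_averageMap τ).trace]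
    simp [Representation.averageMap, GroupAlgebra.average, Representation.character,
      map_sum, Representation.asAlgebraHom_of, Nat.card_eq_fintype_card]
  rw [Finset.sum_eq_single (1 : H) (fun (x : H) _ hne => show τ.character x = 0 from
      hv (x : SLn) x.2 fun e => hne (Subtype.ext e)) (by simp),
    Representation.char_one] at h1
  have h2 : (finrank ℂ V : ℂ) = (Nat.card H : ℂ) * (finrank ℂ (fixedSpace ρ H) : ℂ) := by
    rw [show finrank ℂ (fixedSpace ρ H) = finrank ℂ (Representation.invariants τ) from rfl, ← h1,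
      mul_inv_cancel_left₀ (Nat.cast_ne_zero.2 Nat.card_pos.ne')]
  exact_mod_cast h2

/-- The averaging projection of a radical. -/
noncomputable def avg (b : Fin n → ℕ) : V →ₗ[ℂ] V :=
  letI := Fintype.ofFinite (rad (F := F) b)
  (Nat.card (rad (F := F) b) : ℂ)⁻¹ • ∑ u : rad (F := F) b, ρ (u : SLn)

theorem avg_mem (b : Fin n → ℕ) (v : V) : avg ρ b v ∈ fixedSpace ρ (rad b) := by
  classical
  letI := Fintype.ofFinite (rad (F := F) b)
  refine (mem_fixedSpace ρ).mpr fun g hg => ?_
  simp only [avg, LinearMap.smul_apply, LinearMap.sum_apply, map_smul, map_sum]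
  refine congrArg _ (Fintype.sum_equiv (Equiv.mulLeft ⟨g, hg⟩) _ _ fun u => ?_)
  simp [← Module.End.mul_apply, ← map_mul]

theorem avg_fix (b : Fin n → ℕ) {v : V} (hv : v ∈ fixedSpace ρ (rad b)) : avg ρ b v = v := by
  classical
  letI := Fintype.ofFinite (rad (F := F) b)
  rw [mem_fixedSpace] at hv
  simp only [avg, LinearMap.smul_apply, LinearMap.sum_apply]
  rw [Finset.sum_congr rfl fun (u : rad (F := F) b) _ => hv u u.2, Finset.sum_const, Finset.card_univ,
    ← Nat.cast_smul_eq_nsmul ℂ, smul_smul, Nat.card_eq_fintype_card,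
    inv_mul_cancel₀ (Nat.cast_ne_zero.2 Fintype.card_ne_zero), one_smul]

theorem avg_comm (b : Fin n → ℕ) {g : SLn}
    (hg : Matrix.SpecialLinearGroup.toGL g ∈ triGroup b) (v : V) :
    avg ρ b (ρ g v) = ρ g (avg ρ b v) := by
  classical
  letI := Fintype.ofFinite (rad (F := F) b)
  simp only [avg, LinearMap.smul_apply, LinearMap.sum_apply, map_smul, map_sum]
  refine congrArg _ (Fintype.sum_bijective
    (fun u : rad (F := F) b => (⟨g⁻¹ * u * g⁻¹⁻¹,
      rad_conj b (by rw [map_inv]; exact inv_mem hg) u.2⟩ : rad (F := F) b)) ?_ _ _ fun u => ?_)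
  · refine Finite.injective_iff_bijective.mp fun u v h => Subtype.ext ?_
    simpa using congrArg Subtype.val h
  · simp [← Module.End.mul_apply, ← map_mul, mul_assoc]

theorem mem_bor_of_mem_slU {u : SLn} (hu : u ∈ slU n F) :
    Matrix.SpecialLinearGroup.toGL u ∈ bor n F := uni_le_bor hu

theorem bor_map_fixed {b : SLn} (hb : Matrix.SpecialLinearGroup.toGL b ∈ bor n F) {v : V}
    (hv : v ∈ fixedSpace ρ (slU n F)) : ρ b v ∈ fixedSpace ρ (slU n F) := by
  rw [mem_fixedSpace] at hv ⊢
  intro u hu
  have h1 : b⁻¹ * u * b ∈ slU n F := by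
    show Matrix.SpecialLinearGroup.toGL (b⁻¹ * u * b) ∈ uni n F
    rw [map_mul, map_mul, map_inv]
    exact bor_conj_slU hu hb
  rw [← Module.End.mul_apply, ← map_mul, show u * b = b * (b⁻¹ * u * b) by group, map_mul,
    Module.End.mul_apply, hv _ h1]

theorem fixed_inf_fixX (a : Adj n) :
    fixedSpace ρ (rad a.lbl) ⊓ fixX (ρ.comp a.emb : Representation ℂ (Matrix.SpecialLinearGroup (Fin 2) F) V) =
      fixedSpace ρ (slU n F) := by
  refine le_antisymm (fun v hv => (mem_fixedSpace ρ).mpr fun u hu => ?_) fun v hv =>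
    ⟨(mem_fixedSpace ρ).mpr fun r hr => (mem_fixedSpace ρ).mp hv r
      (rad_le_slU (pairBlock_mono _) hr), fun s => (mem_fixedSpace ρ).mp hv _ (emb_sx_mem a s)⟩
  rw [show u = a.emb (sx ((u : Matrix (Fin n) (Fin n) F) a.i a.j)) *
      (a.emb (sx (-(u : Matrix (Fin n) (Fin n) F) a.i a.j)) * u) by
    rw [← mul_assoc, ← map_mul, sx_add, add_neg_cancel, sx_zero, map_one, one_mul],
    map_mul, Module.End.mul_apply, (mem_fixedSpace ρ).mp hv.1 _ (sx_mul_mem_rad a hu)]
  exact hv.2 _

theorem translates_span [ρ.IsIrreducible] {v : V} (hv : v ≠ 0) :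
    Submodule.span ℂ (Set.range fun g => ρ g v) = ⊤ := by
  refine (eq_bot_or_eq_top ρ _ fun g w hw => ?_).resolve_left fun h => hv ?_
  · refine (Submodule.span_le (p := (Submodule.span ℂ (Set.range fun g => ρ g v)).comap (ρ g))).mpr ?_ hw
    rintro _ ⟨h, rfl⟩
    exact Submodule.subset_span ⟨g * h, by simp⟩
  · have h1 : v ∈ Submodule.span ℂ (Set.range fun g => ρ g v) := Submodule.subset_span ⟨1, by simp⟩
    rwa [h, Submodule.mem_bot] at h1

/-- The fixed space of a radical is generated by the fixed vectors of the unitriangular group. -/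
theorem rad_generated [ρ.IsIrreducible] (a : Adj n) {v₀ : V} (hv : v₀ ∈ fixedSpace ρ (slU n F))
    (hv0 : v₀ ≠ 0) :
    fixedSpace ρ (rad a.lbl) ≤ Submodule.span ℂ {x | ∃ A, ∃ z ∈ fixedSpace ρ (rad a.lbl) ⊓
      fixX (ρ.comp a.emb : Representation ℂ (Matrix.SpecialLinearGroup (Fin 2) F) V),
        x = (ρ.comp a.emb) A z} := by
  classical
  intro y hy
  set S := Submodule.span ℂ {x | ∃ A, ∃ z ∈ fixedSpace ρ (rad a.lbl) ⊓
      fixX (ρ.comp a.emb : Representation ℂ (Matrix.SpecialLinearGroup (Fin 2) F) V),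
        x = (ρ.comp a.emb) A z}
  rw [← avg_fix ρ _ hy]
  suffices h : ∀ g, avg ρ a.lbl (ρ g v₀) ∈ S by
    have htop : (⊤ : Submodule ℂ V) ≤ S.comap (avg ρ a.lbl) := by
      rw [← translates_span ρ hv0, Submodule.span_le]
      rintro _ ⟨g, rfl⟩
      exact h g
    exact htop Submodule.mem_top
  intro g
  obtain ⟨w, p, hp, q, hq, hg⟩ := exists_inCell (Matrix.SpecialLinearGroup.toGL g)
  obtain ⟨u', hu', d, dd, hdd, rfl⟩ := exists_uni_mul_diag hp
  obtain ⟨u, -, rfl⟩ := id hu'
  have hu : u ∈ slU n F := hu'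
  obtain ⟨h, β, hβ, hh⟩ := (linearDatum n F).rep w trivial
  set b := (u * h)⁻¹ * g with hbdef
  have hb : Matrix.SpecialLinearGroup.toGL b ∈ bor n F := by
    have e : Matrix.SpecialLinearGroup.toGL b = β⁻¹ * ((permGL n F w)⁻¹ * dd * permGL n F w) * q := by
      have hh' : Matrix.SpecialLinearGroup.toGL h = permGL n F w * β := hh
      rw [hbdef, map_mul, map_inv, map_mul, hh', hg]
      group
    rw [e]
    exact mul_mem (mul_mem (inv_mem hβ) (conj_diag_mem_bor w hdd)) hq
  have hg' : g = u * (h * b) := by rw [hbdef]; group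
  rw [hg', map_mul, map_mul, Module.End.mul_apply, Module.End.mul_apply,
    avg_comm ρ _ (bor_le (pairBlock_mono _) (mem_bor_of_mem_slU hu))]
  set z := ρ h (ρ b v₀) with hz
  have hzY : avg ρ a.lbl z ∈ fixedSpace ρ (rad a.lbl) := avg_mem ρ _ z
  rw [show u = a.emb (sx ((u : Matrix (Fin n) (Fin n) F) a.i a.j)) *
      (a.emb (sx (-(u : Matrix (Fin n) (Fin n) F) a.i a.j)) * u) by
    rw [← mul_assoc, ← map_mul, sx_add, add_neg_cancel, sx_zero, map_one, one_mul],
    map_mul, Module.End.mul_apply, (mem_fixedSpace ρ).mp hzY _ (sx_mul_mem_rad a hu)]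
  have hbv := (mem_fixedSpace ρ).mp (bor_map_fixed ρ hb hv)
  have hfix : ∀ A, h⁻¹ * a.emb A * h ∈ slU n F → ρ (a.emb A) (avg ρ a.lbl z) = avg ρ a.lbl z := by
    intro A hA
    rw [← avg_comm ρ _ (a.emb_mem_tri A), hz, rho_mul_apply,
      show a.emb A * h = h * (h⁻¹ * a.emb A * h) by group, map_mul, Module.End.mul_apply, hbv _ hA]
  rcases perm_conj_root a w hβ hh with hc | hc
  · exact Submodule.subset_span ⟨sx _, avg ρ a.lbl z, ⟨hzY, fun s => hfix _ (hc s)⟩, rfl⟩
  · refine Submodule.subset_span ⟨sx ((u : Matrix (Fin n) (Fin n) F) a.i a.j) * sw,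
      ρ (a.emb sw⁻¹) (avg ρ a.lbl z), ⟨?_, fun s => ?_⟩, ?_⟩
    · rw [← avg_comm ρ _ (a.emb_mem_tri _)]
      exact avg_mem ρ _ _
    · show ρ (a.emb (sx s)) (ρ (a.emb sw⁻¹) _) = _
      rw [rho_mul_apply, ← map_mul,
        show sx s * sw⁻¹ = sw⁻¹ * (sw * sx s * sw⁻¹) by group, map_mul, map_mul,
        Module.End.mul_apply, hfix _ (hc s)]
    · show _ = ρ (a.emb _) (ρ (a.emb sw⁻¹) _)
      rw [rho_mul_apply, ← map_mul, mul_inv_cancel_right]

variable [ρ.IsIrreducible] (hvan : ∀ u ∈ slU n F, u ≠ 1 → ρ.character u = 0)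

include hvan in
theorem exists_fixed_ne_zero : ∃ v ∈ fixedSpace ρ (slU n F), v ≠ 0 := by
  refine Submodule.exists_mem_ne_zero_of_ne_bot fun h => ?_
  have := finrank_fixed ρ hvan
  rw [h, finrank_bot, mul_zero] at this
  have := nontrivial_of_irreducible ρ
  exact (Module.finrank_pos (R := ℂ) (M := V)).ne' (by assumption)

include hvan in
theorem good_fixed (a : Adj n) {v : V} (hv : v ∈ fixedSpace ρ (slU n F)) :
    Good (ρ.comp a.emb : Representation ℂ (Matrix.SpecialLinearGroup (Fin 2) F) V) v := by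
  obtain ⟨v₀, hv₀, hne⟩ := exists_fixed_ne_zero ρ hvan
  obtain ⟨-, heq⟩ := generated_bound
    (ρ.comp a.emb : Representation ℂ (Matrix.SpecialLinearGroup (Fin 2) F) V) _
    (fixedSpace ρ (rad a.lbl)) rfl
    (fun A z hz => by
      show ρ (a.emb A) z ∈ _
      rw [← avg_fix ρ _ hz, ← avg_comm ρ _ (a.emb_mem_tri A)]
      exact avg_mem ρ _ _)
    (rad_generated ρ a hv₀ hne)
  refine heq ?_ v ((fixed_inf_fixX ρ a).symm ▸ hv)
  rw [fixed_inf_fixX]
  have h1 := finrank_fixed ρ hvan
  have h2 := finrank_fixed ρ (H := rad a.lbl)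
    fun u hu => hvan u (rad_le_slU (pairBlock_mono _) hu)
  rw [card_slU_eq a, h2, Nat.card_eq_fintype_card (α := F), mul_comm (Fintype.card F), mul_assoc] at h1
  exact Nat.eq_of_mul_eq_mul_left Nat.card_pos h1

include hvan in
theorem diag_fix {v : V} (hv : v ∈ fixedSpace ρ (slU n F)) :
    ∀ (m : ℕ) (g : SLn), (∀ k l, k ≠ l → (g : Matrix (Fin n) (Fin n) F) k l = 0) →
      (∀ k : Fin n, (k : ℕ) + m < n → (g : Matrix (Fin n) (Fin n) F) k k = 1) → ρ g v = v := by
  intro m
  induction m with
  | zero =>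
    intro g hoff hone
    have : g = 1 := Subtype.ext (Matrix.ext fun k l => by
      by_cases h : k = l
      · subst h; simp [hone k (by simp)]
      · simp [hoff k l h, h])
    simp [this]
  | succ m ih =>
    intro g hoff hone
    by_cases hm : m + 1 < n + 1 ∧ 1 ≤ m
    · -- clear the first nontrivial entry
      let a : Adj n := ⟨⟨n - m - 1, by omega⟩, ⟨n - m, by omega⟩, by simp only; omega⟩
      have hdet : ∏ k, (g : Matrix (Fin n) (Fin n) F) k k = 1 := by
        have hd : (g : Matrix (Fin n) (Fin n) F) = Matrix.diagonal fun k => (g : Matrix (Fin n) (Fin n) F) k k := by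
          ext k l
          by_cases h : k = l
          · subst h; simp
          · simp [h, hoff k l h]
        rw [← Matrix.det_diagonal, ← hd, g.2]
      have hne : (g : Matrix (Fin n) (Fin n) F) a.i a.i ≠ 0 :=
        Finset.prod_ne_zero_iff.mp (show (∏ k, (g : Matrix (Fin n) (Fin n) F) k k) ≠ 0 by
          rw [hdet]; exact one_ne_zero) a.i (Finset.mem_univ _)
      set t := Units.mk0 _ hne with ht
      have h1 := ih (a.emb (sd t⁻¹) * g) (fun k l hkl => ?_) (fun k hk => ?_)
      · rw [map_mul, Module.End.mul_apply] at h1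
        have h2 : ρ (a.emb (sd t)) v = v := (good_fixed ρ hvan a hv).1 t
        have h3 : ρ g v = ρ (a.emb (sd t)) (ρ (a.emb (sd t⁻¹)) (ρ g v)) := by
          rw [rho_mul_apply, rho_mul_apply, ← map_mul, ← sd_mul, mul_inv_cancel, sd_one,
            map_one, one_mul]
        rw [h3, h1, h2]
      · rw [Matrix.SpecialLinearGroup.coe_mul, Adj.coe_emb, Adj.blockMat_mul_apply, coe_sd]
        split_ifs <;> subst_vars <;> simp [hoff _ _ hkl]
      · rw [Matrix.SpecialLinearGroup.coe_mul, Adj.coe_emb, Adj.blockMat_mul_apply, coe_sd]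
        by_cases hi : k = a.i
        · subst hi; simp [ht, inv_mul_cancel₀ hne]
        have hk' : (k : ℕ) < (a.i : ℕ) := by
          have : (k : ℕ) ≠ n - m - 1 := fun h => hi (Fin.ext h)
          show (k : ℕ) < n - m - 1
          omega
        have hkj : k ≠ a.j := fun h => by
          have := congrArg Fin.val h
          have := a.next
          omega
        rw [if_neg hi, if_neg hkj]
        have : (a.i : ℕ) = n - m - 1 := rfl
        exact hone k (by omega)
    · -- at most the last entry is left, and the determinant is one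
      have hd : (g : Matrix (Fin n) (Fin n) F) = Matrix.diagonal fun k => (g : Matrix (Fin n) (Fin n) F) k k := by
        ext k l
        by_cases h : k = l
        · subst h; simp
        · simp [h, hoff k l h]
      by_cases hm0 : m = 0
      · subst hm0
        refine ih g hoff fun k hk => ?_
        by_cases hk' : (k : ℕ) + 1 < n
        · exact hone k (by omega)
        have hdet : ∏ i, (g : Matrix (Fin n) (Fin n) F) i i = 1 := by
          rw [← Matrix.det_diagonal, ← hd, g.2]
        rw [Finset.prod_eq_single k (fun l _ hl => hone l ?_) (by simp)] at hdet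
        · exact hdet
        · have : (l : ℕ) ≠ (k : ℕ) := fun h => hl (Fin.ext h)
          have := l.2
          omega
      · exact ih g hoff fun k hk => by omega

include hvan in
theorem bor_fix {v : V} (hv : v ∈ fixedSpace ρ (slU n F)) {b : SLn}
    (hb : Matrix.SpecialLinearGroup.toGL b ∈ bor n F) : ρ b v = v := by
  obtain ⟨u', hu', d, dd, hdd, he⟩ := exists_uni_mul_diag hb
  obtain ⟨u, -, rfl⟩ := id hu'
  have hd : Matrix.SpecialLinearGroup.toGL (u⁻¹ * b) = dd := by
    rw [map_mul, map_inv, he, inv_mul_cancel_left]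
  have hmat : ((u⁻¹ * b : SLn) : Matrix (Fin n) (Fin n) F) = Matrix.diagonal d := by
    rw [← hdd, ← hd]
    rfl
  have h1 : ρ (u⁻¹ * b) v = v := diag_fix ρ hvan hv n _ (fun k l hkl => by
    rw [hmat, Matrix.diagonal_apply_ne _ hkl]) (fun k hk => by omega)
  conv_rhs => rw [← (mem_fixedSpace ρ).mp hv u hu']
  conv_rhs => rw [← h1]
  rw [← Module.End.mul_apply, ← map_mul, mul_inv_cancel_left]

/-- An element of a pair block group with zero corner is triangular. -/
theorem upper_of_tri (a : Adj n) {g : SLn} (hg : Matrix.SpecialLinearGroup.toGL g ∈ triGroup a.lbl)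
    (h0 : (g : Matrix (Fin n) (Fin n) F) a.j a.i = 0) :
    Matrix.SpecialLinearGroup.toGL g ∈ bor n F := by
  intro k l hlk
  rcases (pairBlock_mono (a.i : ℕ) (le_of_lt (show l < k from hlk))).lt_or_eq with h | h
  · exact hg h
  · have hlk' : (l : ℕ) < (k : ℕ) := hlk
    rcases a.lbl_eq h with h | ⟨rfl, rfl⟩ | ⟨rfl, rfl⟩
    · subst h; omega
    · exact h0
    · have := a.next; omega

/-- The points of a line through a point. -/
def linePt (a : Adj n) : Option F → SLn
  | none => 1
  | some s => a.emb (sx s * sw)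

theorem linePt_mem_tri (a : Adj n) (o : Option F) :
    Matrix.SpecialLinearGroup.toGL (linePt a o) ∈ triGroup a.lbl := by
  cases o with
  | none => simp [linePt]
  | some s => exact a.emb_mem_tri _

theorem linePt_inj (a : Adj n) {o o' : Option F}
    (h : Matrix.SpecialLinearGroup.toGL ((linePt a o)⁻¹ * linePt a o') ∈ bor n F) : o = o' := by
  have key : ∀ A, Matrix.SpecialLinearGroup.toGL (a.emb A) ∈ bor n F →
      (A : Matrix (Fin 2) (Fin 2) F) 1 0 = 0 := by
    intro A hA
    have h1 : (a.emb A : Matrix (Fin n) (Fin n) F) a.j a.i = 0 :=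
      hA (show (a.i : ℕ) < (a.j : ℕ) by have := a.next; omega)
    rw [Adj.coe_emb, Adj.blockMat_apply, if_neg a.ne.symm, if_pos rfl, if_pos rfl] at h1
    exact h1
  rcases o with _ | s <;> rcases o' with _ | s' <;> simp only [linePt] at h
  · rfl
  · rw [inv_one, one_mul] at h
    have := key _ h
    simp [coe_sx, coe_sw] at this
  · rw [mul_one, ← map_inv a.emb] at h
    have := key _ h
    simp [coe_sx, coe_sw, Matrix.adjugate_fin_two_of] at this
  · rw [← map_inv a.emb, ← map_mul a.emb] at h
    have := key _ h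
    simp [coe_sx, coe_sw, Matrix.adjugate_fin_two_of, mul_comm] at this
    rw [show s = s' by linear_combination this]

theorem linePt_surj (a : Adj n) {g : SLn}
    (hg : Matrix.SpecialLinearGroup.toGL g ∈ triGroup a.lbl) :
    ∃ o, Matrix.SpecialLinearGroup.toGL ((linePt a o)⁻¹ * g) ∈ bor n F := by
  by_cases h0 : (g : Matrix (Fin n) (Fin n) F) a.j a.i = 0
  · exact ⟨none, by simpa [linePt] using upper_of_tri a hg h0⟩
  set s := (g : Matrix (Fin n) (Fin n) F) a.i a.i / (g : Matrix (Fin n) (Fin n) F) a.j a.i with hs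
  refine ⟨some s, upper_of_tri a ?_ ?_⟩
  · rw [map_mul, map_inv]
    exact mul_mem (inv_mem (linePt_mem_tri a _)) hg
  · simp only [linePt]
    rw [← map_inv a.emb, Matrix.SpecialLinearGroup.coe_mul, Adj.coe_emb, Adj.blockMat_mul_apply,
      if_neg a.ne.symm, if_pos rfl, mul_inv_rev, Matrix.SpecialLinearGroup.coe_mul,
      Matrix.SpecialLinearGroup.coe_inv, Matrix.SpecialLinearGroup.coe_inv, coe_sx, coe_sw,
      Matrix.adjugate_fin_two_of, Matrix.adjugate_fin_two_of]
    simp [hs, h0]

/-- The function attached to a functional. -/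
noncomputable def coef (v : V) : Module.Dual ℂ V →ₗ[ℂ] ((SLn ⧸ (linearDatum n F).B) → ℂ) where
  toFun φ x := φ (ρ x.out v)
  map_add' _ _ := rfl
  map_smul' _ _ := rfl

include hvan in
theorem coef_mk {v : V} (hv : v ∈ fixedSpace ρ (slU n F)) (φ : Module.Dual ℂ V) (g : SLn) :
    coef ρ v φ (QuotientGroup.mk g) = φ (ρ g v) := by
  show φ (ρ (QuotientGroup.mk g : SLn ⧸ (linearDatum n F).B).out v) = _
  obtain ⟨⟨b, hb⟩, hbe⟩ := QuotientGroup.mk_out_eq_mul (linearDatum n F).B g
  rw [hbe, map_mul, Module.End.mul_apply, bor_fix ρ hvan hv hb]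

include hvan in
/-- An irreducible character vanishing on the nontrivial unitriangular elements is determined. -/
theorem character_eq [Fintype (SLn ⧸ (linearDatum n F).B)] (g : SLn) :
    ρ.character g = (linearDatum n F).setup.rep.character g⁻¹ := by
  classical
  obtain ⟨v, hv, hv0⟩ := exists_fixed_ne_zero ρ hvan
  have hmem : ∀ φ, coef ρ v φ ∈ (linearDatum n F).setup.space := by
    intro φ i x
    obtain ⟨g, rfl⟩ := QuotientGroup.mk_surjective x
    let i' : {a : ℕ // a + 1 < n} := i
    let a : Adj n := ⟨⟨i'.1, lt_of_lt_of_le (Nat.lt_succ_self _) i'.2.le⟩, ⟨i'.1 + 1, i'.2⟩, rfl⟩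
    let pt : Option F → SLn ⧸ (linearDatum n F).B := fun o => QuotientGroup.mk (g * linePt a o)
    have hinj : Function.Injective pt := fun o o' h => by
      refine linePt_inj a ?_
      have h1 : (g * linePt a o)⁻¹ * (g * linePt a o') ∈ (linearDatum n F).B := QuotientGroup.eq.mp h
      rwa [show (g * linePt a o)⁻¹ * (g * linePt a o') = (linePt a o)⁻¹ * linePt a o' by group] at h1
    have hset : ∀ y, (linearDatum n F).setup.rel i (QuotientGroup.mk g) y ↔ ∃ o, pt o = y := by
      intro y
      obtain ⟨h, rfl⟩ := QuotientGroup.mk_surjective y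
      show (linearDatum n F).rel i' (QuotientGroup.mk g) (QuotientGroup.mk h) ↔ _
      rw [(linearDatum n F).rel_mk (i := i')]
      constructor
      · intro hr
        obtain ⟨o, ho⟩ := linePt_surj a (g := g⁻¹ * h) (by rw [map_mul, map_inv]; exact hr)
        refine ⟨o, QuotientGroup.eq.mpr ?_⟩
        rw [show (g * linePt a o)⁻¹ * h = (linePt a o)⁻¹ * (g⁻¹ * h) by group]
        exact ho
      · rintro ⟨o, ho⟩
        have h1 : (g * linePt a o)⁻¹ * h ∈ (linearDatum n F).B := QuotientGroup.eq.mp ho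
        have h2 := mul_mem (linePt_mem_tri a o) (bor_le (pairBlock_mono _) (show
          Matrix.SpecialLinearGroup.toGL ((g * linePt a o)⁻¹ * h) ∈ bor n F from h1))
        rw [← map_mul, show linePt a o * ((g * linePt a o)⁻¹ * h) = g⁻¹ * h by group, map_mul,
          map_inv] at h2
        exact h2
    rw [← Finset.sum_filter, show Finset.univ.filter (fun y => (linearDatum n F).setup.rel i (QuotientGroup.mk g) y) =
        Finset.univ.image pt by ext y; simp [hset],
      Finset.sum_image fun o _ o' _ h => hinj h, Fintype.sum_option]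
    simp only [pt, coef_mk ρ hvan hv, linePt, mul_one, map_mul, Module.End.mul_apply]
    have hgood : v + ∑ s : F, ρ (a.emb (sx s * sw)) v = 0 := (good_fixed ρ hvan a hv).2
    rw [← map_sum, ← map_add]
    have hg : ρ g v + ∑ s : F, ρ g (ρ (a.emb (sx s * sw)) v) = 0 := by
      rw [← map_sum, ← map_add, hgood, map_zero]
    simp only [map_mul, Module.End.mul_apply] at hg
    rw [hg, map_zero]
  let Φ : Module.Dual ℂ V →ₗ[ℂ] (linearDatum n F).setup.space := (coef ρ v).codRestrict (linearDatum n F).setup.space hmem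
  have hinj : Function.Injective Φ := by
    rw [← LinearMap.ker_eq_bot, LinearMap.ker_eq_bot']
    intro φ hφ
    refine LinearMap.ext_on_range (translates_span ρ hv0) fun g => ?_
    have := congrFun (congrArg Subtype.val hφ) (QuotientGroup.mk g)
    simpa [Φ, coef_mk ρ hvan hv] using this
  have hdim : finrank ℂ (Module.Dual ℂ V) = finrank ℂ (linearDatum n F).setup.space := by
    refine le_antisymm (LinearMap.finrank_le_finrank_of_injective hinj) ?_
    rw [Subspace.dual_finrank_eq]
    haveI : Fintype (linearDatum n F).setup.U := Fintype.ofFinite _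
    rw [(linearDatum n F).setup.coordEquiv.finrank_eq, Module.finrank_fintype_fun_eq_card, ← Nat.card_eq_fintype_card,
      finrank_fixed ρ hvan]
    refine Nat.le_mul_of_pos_right _ (Submodule.one_le_finrank_iff.mpr fun h => hv0 ?_)
    rwa [h, Submodule.mem_bot] at hv
  let e := LinearEquiv.ofBijective Φ
    ⟨hinj, (LinearMap.injective_iff_surjective_of_finrank_eq_finrank hdim).mp hinj⟩
  have hconj : (linearDatum n F).setup.rep g⁻¹ = e.conj ((ρ g).dualMap) := by
    refine LinearMap.ext fun f => ?_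
    obtain ⟨φ, rfl⟩ := e.surjective f
    rw [LinearEquiv.conj_apply_apply, e.symm_apply_apply]
    refine Subtype.ext (funext fun x => ?_)
    obtain ⟨h, rfl⟩ := QuotientGroup.mk_surjective x
    show coef ρ v φ (g⁻¹⁻¹ • QuotientGroup.mk h) = coef ρ v ((ρ g).dualMap φ) (QuotientGroup.mk h)
    rw [inv_inv, MulAction.Quotient.smul_mk, coef_mk ρ hvan hv, coef_mk ρ hvan hv, smul_eq_mul, map_mul]
    rfl
  simp only [Representation.character]
  rw [hconj, LinearMap.trace_conj']
  exact (LinearMap.trace_transpose' (ρ g)).symm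

/-- There is exactly one irreducible character of `SL n` vanishing on the nontrivial
unitriangular elements. -/
theorem existsUnique_vanishing (n : ℕ) (F : Type*) [Field F] [Fintype F] :
    ∃ χ : Matrix.SpecialLinearGroup (Fin n) F → ℂ, Cfsg.IsIrrCharacter _ χ ∧
      χ 1 = (Nat.card (slU n F) : ℂ) ∧ (∀ u ∈ slU n F, u ≠ 1 → χ u = 0) ∧
      ∀ ψ, Cfsg.IsIrrCharacter _ ψ → (∀ u ∈ slU n F, u ≠ 1 → ψ u = 0) → ψ = χ := by
  classical
  haveI : Finite (Matrix.SpecialLinearGroup (Fin n) F) := finite_sl
  haveI := Fintype.ofFinite (Matrix.SpecialLinearGroup (Fin n) F ⧸ (linearDatum n F).B)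
  obtain ⟨χ, hirr, h1, h0⟩ := (linearDatum n F).setup.exists_character
  refine ⟨χ, hirr, h1, h0, fun ψ hψ hv => funext fun g => ?_⟩
  obtain ⟨m, ρ, hρ, rfl⟩ := hψ
  obtain ⟨m', ρ', hρ', rfl⟩ := hirr
  haveI := hρ
  haveI := hρ'
  rw [character_eq ρ hv g, character_eq ρ' h0 g]

end CfsgLib.SLBlocks
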