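import Mathlib
import Cfsg.Agent.Lib.Char.Kernel

/-!
Representations of `SL 2` generated by the fixed vectors of a unitriangular group: their dimension
is at most `q` times the dimension of the fixed space, and in the equality case the torus fixes
the fixed vectors, whose orbit sums vanish.
-/

set_option autoImplicit false

open Module Finset

namespace CfsgLib.SLBlocks

variable {F : Type*} [Field F]

/-- Upper unitriangular elements. -/
def sx (s : F) : Matrix.SpecialLinearGroup (Fin 2) F :=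
  ⟨!![1, s; 0, 1], by simp [Matrix.det_fin_two]⟩

/-- Diagonal elements. -/
def sd (t : Fˣ) : Matrix.SpecialLinearGroup (Fin 2) F :=
  ⟨!![(t : F), 0; 0, ((t⁻¹ : Fˣ) : F)], by simp [Matrix.det_fin_two]⟩

/-- The reflection. -/
def sw : Matrix.SpecialLinearGroup (Fin 2) F :=
  ⟨!![0, 1; -1, 0], by simp [Matrix.det_fin_two]⟩

theorem coe_sx (s : F) : ((sx s : Matrix.SpecialLinearGroup (Fin 2) F) : Matrix (Fin 2) (Fin 2) F) =
    !![1, s; 0, 1] := rfl

theorem coe_sd (t : Fˣ) : ((sd t : Matrix.SpecialLinearGroup (Fin 2) F) : Matrix (Fin 2) (Fin 2) F) =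
    !![(t : F), 0; 0, ((t⁻¹ : Fˣ) : F)] := rfl

theorem coe_sw : ((sw : Matrix.SpecialLinearGroup (Fin 2) F) : Matrix (Fin 2) (Fin 2) F) =
    !![0, 1; -1, 0] := rfl

theorem sx_zero : (sx 0 : Matrix.SpecialLinearGroup (Fin 2) F) = 1 :=
  Subtype.ext (by simp [sx, Matrix.one_fin_two])

theorem sx_add (a b : F) : sx a * sx b = sx (a + b) :=
  Subtype.ext (by simp [coe_sx, add_comm])

theorem sd_one : (sd 1 : Matrix.SpecialLinearGroup (Fin 2) F) = 1 :=
  Subtype.ext (by simp [sd, Matrix.one_fin_two])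

theorem sd_mul (a b : Fˣ) : sd (a * b) = sd a * sd b :=
  Subtype.ext (by simp [coe_sd, mul_comm])

theorem sx_mul_sd (s : F) (t : Fˣ) : sx s * sd t = sd t * sx (s * ((t⁻¹ : Fˣ) : F) ^ 2) :=
  Subtype.ext (by
    simp only [coe_sx, coe_sd, Matrix.SpecialLinearGroup.coe_mul, Matrix.mul_fin_two]
    ext i j
    fin_cases i <;> fin_cases j <;> simp
    field_simp)

theorem sw_mul_sw : (sw * sw : Matrix.SpecialLinearGroup (Fin 2) F) = sd (-1) :=
  Subtype.ext (by simp [coe_sw, coe_sd])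

theorem sw_sx_sw (t : Fˣ) :
    sw * sx (t : F) * sw = sx (-(t : F)⁻¹) * sw * sd (-t) * sx (-(t : F)⁻¹) :=
  Subtype.ext (by
    simp only [coe_sx, coe_sd, coe_sw, Matrix.SpecialLinearGroup.coe_mul, Matrix.mul_fin_two]
    ext i j
    fin_cases i <;> fin_cases j <;> simp)

/-- The two cells. -/
theorem bruhat_two (A : Matrix.SpecialLinearGroup (Fin 2) F) :
    (∃ t s, A = sd t * sx s) ∨ ∃ a t s, A = sx a * sw * sd t * sx s := by
  obtain ⟨M, hM⟩ := A
  have hdet : M 0 0 * M 1 1 - M 0 1 * M 1 0 = 1 := (Matrix.det_fin_two M).symm.trans hM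
  by_cases hc : M 1 0 = 0
  · left
    have ha : M 0 0 ≠ 0 := fun h => by rw [h, hc] at hdet; simp at hdet
    refine ⟨Units.mk0 _ ha, M 0 1 / M 0 0, Subtype.ext ?_⟩
    simp only [coe_sx, coe_sd, Matrix.SpecialLinearGroup.coe_mul, Matrix.mul_fin_two]
    ext i j
    fin_cases i <;> fin_cases j <;> simp [hc]
    · field_simp
    · rw [hc, mul_zero, sub_zero] at hdet
      field_simp
      linear_combination hdet
  · right
    refine ⟨M 0 0 / M 1 0, Units.mk0 (-M 1 0) (neg_ne_zero.mpr hc), M 1 1 / M 1 0, Subtype.ext ?_⟩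
    simp only [coe_sx, coe_sd, coe_sw, Matrix.SpecialLinearGroup.coe_mul, Matrix.mul_fin_two]
    ext i j
    fin_cases i <;> fin_cases j <;> simp
    · field_simp
    · field_simp
      linear_combination -hdet
    · field_simp

variable [Fintype F] {Z : Type*} [AddCommGroup Z] [Module ℂ Z] [FiniteDimensional ℂ Z]
  (σ : Representation ℂ (Matrix.SpecialLinearGroup (Fin 2) F) Z)

/-- The vectors fixed by the unitriangular group. -/
def fixX : Submodule ℂ Z where
  carrier := {z | ∀ s : F, σ (sx s) z = z}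
  zero_mem' := fun s => map_zero _
  add_mem' := fun ha hb s => by rw [map_add, ha s, hb s]
  smul_mem' := fun c z hz s => by rw [map_smul, hz s]

theorem mem_fixX {z : Z} : z ∈ fixX σ ↔ ∀ s : F, σ (sx s) z = z := Iff.rfl

theorem sd_mem_fixX {z : Z} (hz : z ∈ fixX σ) (t : Fˣ) : σ (sd t) z ∈ fixX σ := fun s => by
  rw [← Module.End.mul_apply, ← map_mul, sx_mul_sd, map_mul, Module.End.mul_apply, hz]

/-- The two conclusions in the equality case. -/
def Good (y : Z) : Prop :=
  (∀ t, σ (sd t) y = y) ∧ y + ∑ s, σ (sx s * sw) y = 0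

theorem Good.add {y z : Z} (hy : Good σ y) (hz : Good σ z) : Good σ (y + z) := by
  refine ⟨fun t => by rw [map_add, hy.1, hz.1], ?_⟩
  simp only [map_add, Finset.sum_add_distrib]
  rw [add_add_add_comm, hy.2, hz.2, add_zero]

theorem Good.smul {y : Z} (hy : Good σ y) (c : ℂ) : Good σ (c • y) := by
  refine ⟨fun t => by rw [map_smul, hy.1], ?_⟩
  simp only [map_smul, ← Finset.smul_sum, ← smul_add, hy.2, smul_zero]

/-- The bound for the submodule generated by one eigenvector. -/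
theorem cyclic_bound {y : Z} (hy : y ∈ fixX σ) (hy0 : y ≠ 0) (lam : Fˣ → ℂ)
    (hlam : ∀ t, σ (sd t) y = lam t • y) :
    ∃ M : Submodule ℂ Z, y ∈ M ∧ (∀ A, ∀ z ∈ M, σ A z ∈ M) ∧
      (∀ W : Submodule ℂ Z, y ∈ W → (∀ A, ∀ z ∈ W, σ A z ∈ W) → M ≤ W) ∧
      finrank ℂ M ≤ Fintype.card F * finrank ℂ (M ⊓ fixX σ : Submodule ℂ Z) ∧
      (finrank ℂ M = Fintype.card F * finrank ℂ (M ⊓ fixX σ : Submodule ℂ Z) →
        ∀ z ∈ M ⊓ fixX σ, Good σ z) := by
  classical
  set M : Submodule ℂ Z := Submodule.span ℂ (Set.range fun A => σ A y) with hMdef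
  set f : F → Z := fun s => σ (sx s * sw) y with hf
  set g : Option F → Z := fun o => o.elim y f with hg
  have hstep : ∀ (t : Fˣ) (s : F), σ (sd t * sx s) y = lam t • y := fun t s => by
    rw [map_mul, Module.End.mul_apply, hy, hlam]
  have hMg : M = Submodule.span ℂ (Set.range g) := by
    refine le_antisymm (Submodule.span_le.mpr ?_) (Submodule.span_le.mpr ?_)
    · rintro _ ⟨A, rfl⟩
      rcases bruhat_two A with ⟨t, s, rfl⟩ | ⟨a, t, s, rfl⟩
      · show σ _ y ∈ _
        rw [hstep]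
        exact Submodule.smul_mem _ _ (Submodule.subset_span ⟨none, rfl⟩)
      · show σ _ y ∈ _
        rw [mul_assoc, map_mul, Module.End.mul_apply, hstep, map_smul]
        exact Submodule.smul_mem _ _ (Submodule.subset_span ⟨some a, rfl⟩)
    · rintro _ ⟨o, rfl⟩
      cases o with
      | none => exact Submodule.subset_span ⟨1, by simp [hg]⟩
      | some s => exact Submodule.subset_span ⟨sx s * sw, rfl⟩
  have hyM : y ∈ M := Submodule.subset_span ⟨1, by simp⟩
  have hinv : ∀ A, ∀ z ∈ M, σ A z ∈ M := by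
    intro A z hz
    refine (Submodule.span_le (p := M.comap (σ A))).mpr ?_ hz
    rintro _ ⟨B, rfl⟩
    exact Submodule.subset_span ⟨A * B, by simp⟩
  refine ⟨M, hyM, hinv, fun W hW hWi => Submodule.span_le.mpr ?_, ?_⟩
  · rintro _ ⟨A, rfl⟩
    exact hWi A y hW
  set q := Fintype.card F with hq
  have hq2 : 2 ≤ q := Fintype.one_lt_card
  have hMle : finrank ℂ M ≤ q + 1 := by
    rw [hMg]
    refine (finrank_range_le_card g).trans ?_
    rw [Fintype.card_option]
  set d := finrank ℂ (M ⊓ fixX σ : Submodule ℂ Z) with hd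
  have hd1 : 1 ≤ d := Submodule.one_le_finrank_iff.mpr fun h =>
    hy0 ((Submodule.mem_bot ℂ).mp (h ▸ ⟨hyM, hy⟩ : y ∈ (⊥ : Submodule ℂ Z)))
  by_cases hd2 : 2 ≤ d
  · have h2 : q * 2 ≤ q * d := Nat.mul_le_mul_left q hd2
    exact ⟨by omega, fun h => by omega⟩
  have hd' : d = 1 := by omega
  have hspan : ∀ z ∈ M ⊓ fixX σ, ∃ c : ℂ, z = c • y := by
    intro z hz
    obtain ⟨c, hc⟩ := exists_smul_eq_of_finrank_eq_one (V := (M ⊓ fixX σ : Submodule ℂ Z)) hd'
      (x := ⟨y, hyM, hy⟩) (by simpa [Subtype.ext_iff] using hy0) ⟨z, hz⟩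
    exact ⟨c, (congrArg Subtype.val hc).symm⟩
  set z := ∑ s, f s with hz
  have hzmem : z ∈ M ⊓ fixX σ := by
    refine ⟨Submodule.sum_mem _ fun s _ => Submodule.subset_span ⟨sx s * sw, rfl⟩, fun u => ?_⟩
    rw [hz, map_sum]
    refine Fintype.sum_equiv (Equiv.addLeft u) _ _ fun s => ?_
    rw [hf, ← Module.End.mul_apply, ← map_mul, ← mul_assoc, sx_add]
    rfl
  obtain ⟨c, hc⟩ := hspan z hzmem
  have hl0 : ∀ t, lam t ≠ 0 := fun t h => hy0 (by
    have h1 := hlam t
    rw [h, zero_smul] at h1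
    simpa [← Module.End.mul_apply, ← map_mul, ← sd_mul, sd_one] using congrArg (σ (sd t⁻¹)) h1)
  have hl1 : lam 1 = 1 := by
    have h1 := hlam 1
    rw [sd_one, map_one, Module.End.one_apply] at h1
    exact (smul_left_injective ℂ hy0 ((one_smul ℂ y).trans h1)).symm
  -- apply the reflection to the orbit sum
  let e : F ≃ F := Function.Involutive.toPerm (fun s => -s⁻¹) fun s => by simp
  have he : ∀ s, e s = -s⁻¹ := fun s => rfl
  let b : F → ℂ := fun s => if h : s = 0 then 0 else lam (Units.mk0 s h)⁻¹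
  have hsum : c • f 0 = lam (-1) • y + ∑ s, b s • f s := by
    have hwz : σ sw z = c • f 0 := by
      rw [hc, map_smul, hf]
      simp [sx_zero]
    rw [← hwz, hz, map_sum, ← Equiv.sum_comp e (fun s => b s • f s)]
    rw [Finset.sum_eq_add_sum_sdiff_singleton_of_mem (Finset.mem_univ (0 : F)) (fun s => σ sw (f s)),
      Finset.sum_eq_add_sum_sdiff_singleton_of_mem (Finset.mem_univ (0 : F))
        (fun s => b (e s) • f (e s))]
    have h0 : b (e 0) • f (e 0) = 0 := by simp [he, b]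
    rw [h0, zero_add]
    refine congrArg₂ (· + ·) ?_ (Finset.sum_congr rfl fun s hs => ?_)
    · rw [hf, ← Module.End.mul_apply, ← map_mul, sx_zero, one_mul, sw_mul_sw, hlam]
    · have hs0 : s ≠ 0 := by simpa using hs
      have hne : e s ≠ 0 := by simp [he, hs0]
      rw [hf, ← Module.End.mul_apply, ← map_mul, ← mul_assoc,
        show s = ((Units.mk0 s hs0 : Fˣ) : F) from rfl, sw_sx_sw, mul_assoc, map_mul,
        Module.End.mul_apply, hstep, map_smul]
      have hbs : b (e s) = lam (Units.mk0 (e s) hne)⁻¹ := dif_neg hne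
      rw [show b (e ((Units.mk0 s hs0 : Fˣ) : F)) = _ from hbs]
      congr 2
      refine Units.ext ?_
      simp [he]
  set μ := (lam (-1))⁻¹ with hμ
  let a : F → ℂ := fun s => if s = 0 then μ * c else -(μ * b s)
  have hya : y = ∑ s, a s • f s := by
    have h1 : ∀ s, a s • f s = (if s = 0 then (μ * c) • f 0 else 0) - (μ * b s) • f s := by
      intro s
      by_cases hs : s = 0
      · subst hs
        simp [a, b]
      · simp [a, hs]
    rw [Finset.sum_congr rfl fun s _ => h1 s, Finset.sum_sub_distrib, Fintype.sum_ite_eq' (0 : F) _]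
    simp only [mul_smul, ← Finset.smul_sum, ← smul_sub]
    rw [hsum, add_sub_cancel_right, smul_smul, hμ, inv_mul_cancel₀ (hl0 _), one_smul]
  have hMf : M ≤ Submodule.span ℂ (Set.range f) := by
    rw [hMg]
    refine Submodule.span_le.mpr ?_
    rintro _ ⟨o, rfl⟩
    cases o with
    | none =>
      show y ∈ _
      rw [hya]
      exact Submodule.sum_mem _ fun s _ => Submodule.smul_mem _ _ (Submodule.subset_span ⟨s, rfl⟩)
    | some s => exact Submodule.subset_span ⟨s, rfl⟩
  have hle : finrank ℂ M ≤ q := (Submodule.finrank_mono hMf).trans (finrank_range_le_card f)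
  rw [hd', mul_one]
  refine ⟨hle, fun heq => ?_⟩
  have hli : LinearIndependent ℂ f := by
    rw [linearIndependent_iff_card_le_finrank_span, ← hq, ← heq]
    exact Submodule.finrank_mono hMf
  have hconst : ∀ s, a s = a 0 := by
    intro u
    have h1 : ∑ s, a s • f s = ∑ s, a (s - u) • f s := by
      rw [← hya]
      conv_lhs => rw [← hy u, hya, map_sum]
      refine Fintype.sum_equiv (Equiv.addLeft u) _ _ fun s => ?_
      rw [map_smul, hf, ← Module.End.mul_apply, ← map_mul, ← mul_assoc, sx_add]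
      simp
    have h2 := Fintype.linearIndependent_iff.mp hli (fun s => a s - a (s - u)) (by
      simp only [sub_smul, Finset.sum_sub_distrib, h1, sub_self]) u
    simpa [sub_eq_zero] using h2
  have hμ0 : μ ≠ 0 := inv_ne_zero (hl0 _)
  have hc1 : c = -1 := by
    have h := hconst 1
    simp only [a, b, one_ne_zero, if_false, if_true, dite_false, Units.mk0_one, inv_one, hl1,
      mul_one] at h
    exact mul_left_cancel₀ hμ0 (by rw [← h]; ring)
  have hgood : Good σ y := by
    refine ⟨fun t => ?_, ?_⟩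
    · have h := hconst ((t⁻¹ : Fˣ) : F)
      simp only [a, b, Units.ne_zero, if_false, if_true, dite_false, Units.mk0_val, inv_inv,
        hc1] at h
      have h' : lam t = 1 := mul_left_cancel₀ hμ0 (by linear_combination -h)
      rw [hlam, h', one_smul]
    · show y + z = 0
      rw [hc, hc1]
      simp
  intro w hw
  obtain ⟨k, rfl⟩ := hspan w hw
  exact hgood.smul σ k

/-- The bound, with its equality case. -/
theorem generated_bound : ∀ (k : ℕ) (W : Submodule ℂ Z), finrank ℂ W = k →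
    (∀ A, ∀ z ∈ W, σ A z ∈ W) →
    W ≤ Submodule.span ℂ {v | ∃ A, ∃ z ∈ W ⊓ fixX σ, v = σ A z} →
      finrank ℂ W ≤ Fintype.card F * finrank ℂ (W ⊓ fixX σ : Submodule ℂ Z) ∧
      (finrank ℂ W = Fintype.card F * finrank ℂ (W ⊓ fixX σ : Submodule ℂ Z) →
        ∀ z ∈ W ⊓ fixX σ, Good σ z) := by
  classical
  intro k
  induction k using Nat.strong_induction_on with
  | _ k ih =>
  intro W hWk hWi hgen
  set K := W ⊓ fixX σ with hK
  by_cases hK0 : K = ⊥
  · have hW0 : W = ⊥ := eq_bot_iff.mpr (hgen.trans (Submodule.span_le.mpr (by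
      rintro _ ⟨A, z, hz, rfl⟩
      rw [hK0, Submodule.mem_bot] at hz
      show σ A z ∈ (⊥ : Submodule ℂ Z)
      simp [hz])))
    refine ⟨by rw [show finrank ℂ W = 0 by rw [hW0, finrank_bot]]; exact Nat.zero_le _, fun _ z hz => ?_⟩
    rw [hK0, Submodule.mem_bot] at hz
    subst hz
    exact ⟨fun t => map_zero _, by simp⟩
  obtain ⟨g₀, hg₀⟩ := IsCyclic.exists_generator (α := Fˣ)
  have hKmap : ∀ z ∈ K, σ (sd g₀) z ∈ K := fun z hz => ⟨hWi _ z hz.1, sd_mem_fixX σ hz.2 g₀⟩
  haveI : Nontrivial K := Submodule.nontrivial_iff_ne_bot.mpr hK0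
  obtain ⟨c, hc⟩ := Module.End.exists_eigenvalue ((σ (sd g₀)).restrict hKmap)
  obtain ⟨v, hv⟩ := hc.exists_hasEigenvector
  set y : Z := (v : Z) with hydef
  have hy0 : y ≠ 0 := fun h => hv.2 (Subtype.ext h)
  have hyc : σ (sd g₀) y = c • y := congrArg Subtype.val hv.apply_eq_smul
  have hpow : ∀ j : ℕ, σ (sd (g₀ ^ j)) y = c ^ j • y := by
    intro j
    induction j with
    | zero => simp [sd_one]
    | succ j hj => rw [pow_succ, sd_mul, map_mul, Module.End.mul_apply, hyc, map_smul, hj, smul_smul,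
        mul_comm, ← pow_succ]
  choose j hj using fun t : Fˣ => (mem_powers_iff_mem_zpowers.mpr (hg₀ t) : t ∈ Submonoid.powers g₀)
  obtain ⟨M, hyM, hMi, hMmin, hMle, hMeq⟩ := cyclic_bound σ v.2.2 hy0 (fun t => c ^ j t)
    fun t => by rw [← hpow]; exact congrArg (fun u => σ (sd u) y) (hj t).symm
  have hMW : M ≤ W := hMmin W v.2.1 hWi
  obtain ⟨M', hM'i, hcompl⟩ := CfsgLib.CharKernel.exists_invariant_compl σ M hMi
  set W2 := W ⊓ M' with hW2
  have hW2i : ∀ A, ∀ z ∈ W2, σ A z ∈ W2 := fun A z hz => ⟨hWi A z hz.1, hM'i A z hz.2⟩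
  have hdec : ∀ z ∈ K, ∃ m ∈ M ⊓ fixX σ, ∃ w ∈ W2 ⊓ fixX σ, m + w = z := by
    intro z hz
    obtain ⟨m, hm, w, hw, hmw⟩ := Submodule.mem_sup.mp
      (hcompl.sup_eq_top ▸ Submodule.mem_top : z ∈ M ⊔ M')
    have hwW : w ∈ W := by
      rw [show w = z - m by rw [← hmw]; abel]
      exact W.sub_mem hz.1 (hMW hm)
    have key : ∀ s, σ (sx s) m = m ∧ σ (sx s) w = w := fun s => by
      have h1 : σ (sx s) m - m = w - σ (sx s) w := by
        have := hz.2 s
        rw [← hmw, map_add] at this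
        rw [sub_eq_sub_iff_add_eq_add, this, add_comm]
      have h2 : σ (sx s) m - m = 0 := Submodule.disjoint_def.mp hcompl.disjoint _
        (M.sub_mem (hMi _ _ hm) hm) (h1 ▸ M'.sub_mem hw (hM'i _ _ hw))
      refine ⟨sub_eq_zero.mp h2, ?_⟩
      rw [h2] at h1
      exact (sub_eq_zero.mp h1.symm).symm
    exact ⟨m, ⟨hm, fun s => (key s).1⟩, w, ⟨⟨hwW, hw⟩, fun s => (key s).2⟩, hmw⟩
  set S2 := Submodule.span ℂ {v | ∃ A, ∃ z ∈ W2 ⊓ fixX σ, v = σ A z} with hS2
  have hS2le : S2 ≤ M' := Submodule.span_le.mpr fun v hv => by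
    obtain ⟨A, z, hz, rfl⟩ := hv
    exact hM'i A z hz.1.2
  have hWle : W ≤ M ⊔ S2 := hgen.trans (Submodule.span_le.mpr fun v hv => by
    obtain ⟨A, z, hz, rfl⟩ := hv
    obtain ⟨m, hm, w, hw, rfl⟩ := hdec z hz
    rw [map_add]
    exact Submodule.add_mem_sup (hMi A m hm.1) (Submodule.subset_span ⟨A, w, hw, rfl⟩))
  have hgen2 : W2 ≤ S2 := by
    intro z hz
    obtain ⟨m, hm, w, hw, hmw⟩ := Submodule.mem_sup.mp (hWle hz.1)
    have hm0 : m = 0 := Submodule.disjoint_def.mp hcompl.disjoint m hm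
      (by rw [show m = z - w by rw [← hmw]; abel]; exact M'.sub_mem hz.2 (hS2le hw))
    rw [← hmw, hm0, zero_add]
    exact hw
  have hsplit : M ⊔ W2 = W := by
    rw [hW2, inf_comm, ← sup_inf_assoc_of_le M' hMW, hcompl.sup_eq_top, top_inf_eq]
  have hdim : finrank ℂ M + finrank ℂ W2 = finrank ℂ W := by
    have h := Submodule.finrank_sup_add_finrank_inf_eq M W2
    rw [hsplit, eq_bot_iff.mpr ((inf_le_inf_left M inf_le_right).trans hcompl.inf_eq_bot.le),
      finrank_bot] at h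
    omega
  have hKsplit : (M ⊓ fixX σ) ⊔ (W2 ⊓ fixX σ) = K := by
    refine le_antisymm (sup_le (inf_le_inf_right _ hMW) (inf_le_inf_right _ inf_le_left)) fun z hz => ?_
    obtain ⟨m, hm, w, hw, rfl⟩ := hdec z hz
    exact Submodule.add_mem_sup hm hw
  have hKdim : finrank ℂ (M ⊓ fixX σ : Submodule ℂ Z) + finrank ℂ (W2 ⊓ fixX σ : Submodule ℂ Z) =
      finrank ℂ K := by
    have h := Submodule.finrank_sup_add_finrank_inf_eq (M ⊓ fixX σ) (W2 ⊓ fixX σ)
    rw [hKsplit, eq_bot_iff.mpr ((inf_le_inf inf_le_left (inf_le_left.trans inf_le_right)).trans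
      hcompl.inf_eq_bot.le), finrank_bot] at h
    omega
  have hMpos : 1 ≤ finrank ℂ M := Submodule.one_le_finrank_iff.mpr fun h =>
    hy0 ((Submodule.mem_bot ℂ).mp (h ▸ hyM))
  obtain ⟨h2le, h2eq⟩ := ih _ (by omega) W2 rfl hW2i hgen2
  rw [← hKdim, Nat.mul_add]
  refine ⟨by omega, fun heq z hz => ?_⟩
  obtain ⟨m, hm, w, hw, rfl⟩ := hdec z hz
  exact (hMeq (by omega) m hm).add σ (h2eq (by omega) w hw)

end CfsgLib.SLBlocks
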