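import Cfsg.Agent.Lib.SteinbergChar.Linear
import Cfsg.Agent.Lib.SLBlocks.RankOne

/-!
The rank one subgroups of `SL n` at adjacent indices, and the radicals they normalise.
-/

set_option autoImplicit false

open Matrix Finset CfsgLib.GLFlags CfsgLib.SteinbergChar

namespace CfsgLib.SLBlocks

variable {n : ℕ} {F : Type*} [Field F]

/-- Two adjacent indices. -/
structure Adj (n : ℕ) where
  i : Fin n
  j : Fin n
  next : (j : ℕ) = (i : ℕ) + 1

namespace Adj

variable (a : Adj n)

theorem ne : a.i ≠ a.j := fun h => by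
  have := congrArg Fin.val h
  have := a.next
  omega

/-- The inclusion of the two coordinates. -/
def incl (F : Type*) [Field F] : Matrix (Fin n) (Fin 2) F := Matrix.of fun k c => if k = ![a.i, a.j] c then 1 else 0

theorem incl_transpose_mul {m : Type*} (M : Matrix (Fin n) m F) (c : Fin 2) (l : m) :
    ((a.incl F)ᵀ * M) c l = M (![a.i, a.j] c) l := by
  simp [Matrix.mul_apply, incl]

theorem incl_mul {m : Type*} (X : Matrix (Fin 2) m F) (k : Fin n) (l : m) :
    ((a.incl F) * X) k l = (if k = a.i then X 0 l else 0) + (if k = a.j then X 1 l else 0) := by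
  simp [Matrix.mul_apply, incl, Fin.sum_univ_two]
  rfl

theorem incl_transpose_mul_incl : (a.incl F)ᵀ * (a.incl F) = 1 := by
  ext c d
  rw [incl_transpose_mul]
  have := a.ne
  have := a.ne.symm
  fin_cases c <;> fin_cases d <;> simp [incl, *]

/-- The matrix with a given two by two block. -/
def blockMat (A : Matrix (Fin 2) (Fin 2) F) : Matrix (Fin n) (Fin n) F :=
  1 + (a.incl F) * (A - 1) * (a.incl F)ᵀ

theorem blockMat_one : a.blockMat (1 : Matrix (Fin 2) (Fin 2) F) = 1 := by simp [blockMat]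

theorem blockMat_mul (A B : Matrix (Fin 2) (Fin 2) F) :
    a.blockMat (A * B) = a.blockMat A * a.blockMat B := by
  have h : (a.incl F) * (A - 1) * (a.incl F)ᵀ * ((a.incl F) * (B - 1) * (a.incl F)ᵀ) =
      (a.incl F) * ((A - 1) * (B - 1)) * (a.incl F)ᵀ := by
    simp only [Matrix.mul_assoc]
    rw [← Matrix.mul_assoc (a.incl F)ᵀ (a.incl F), incl_transpose_mul_incl, Matrix.one_mul]
  rw [blockMat, blockMat, blockMat, Matrix.add_mul, Matrix.mul_add, Matrix.mul_add, Matrix.one_mul,
    Matrix.one_mul, Matrix.mul_one, h, add_assoc]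
  refine congrArg (1 + ·) ?_
  simp only [← Matrix.add_mul, ← Matrix.mul_add]
  refine congrArg (fun X => (a.incl F) * X * (a.incl F)ᵀ) ?_
  simp only [Matrix.sub_mul, Matrix.mul_sub, Matrix.one_mul, Matrix.mul_one]
  abel

theorem blockMat_det (A : Matrix (Fin 2) (Fin 2) F) : (a.blockMat A).det = A.det := by
  rw [blockMat, Matrix.det_one_add_mul_comm, ← Matrix.mul_assoc, incl_transpose_mul_incl,
    Matrix.one_mul, add_sub_cancel]

/-- Left multiplication only changes the two rows. -/
theorem blockMat_mul_apply (A : Matrix (Fin 2) (Fin 2) F) (M : Matrix (Fin n) (Fin n) F)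
    (k l : Fin n) : (a.blockMat A * M) k l =
      if k = a.i then A 0 0 * M a.i l + A 0 1 * M a.j l
      else if k = a.j then A 1 0 * M a.i l + A 1 1 * M a.j l else M k l := by
  rw [blockMat, Matrix.add_mul, Matrix.one_mul, Matrix.add_apply, Matrix.mul_assoc,
    Matrix.mul_assoc, incl_mul]
  have hrow : ∀ c : Fin 2, ((A - 1) * ((a.incl F)ᵀ * M) : Matrix (Fin 2) (Fin n) F) c l =
      (A - 1) c 0 * M a.i l + (A - 1) c 1 * M a.j l := fun c => by
    simp [Matrix.mul_apply (M := A - 1), Fin.sum_univ_two, incl_transpose_mul]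
  rw [hrow, hrow]
  simp only [Matrix.sub_apply, Matrix.one_apply_eq, Matrix.one_apply_ne (show (0 : Fin 2) ≠ 1 by decide),
    Matrix.one_apply_ne (show (1 : Fin 2) ≠ 0 by decide)]
  by_cases hi : k = a.i
  · subst hi
    simp [a.ne]
    ring
  by_cases hj : k = a.j
  · subst hj
    simp [hi]
    ring
  simp [hi, hj]

theorem blockMat_apply (A : Matrix (Fin 2) (Fin 2) F) (k l : Fin n) :
    a.blockMat A k l =
      if k = a.i then (if l = a.i then A 0 0 else if l = a.j then A 0 1 else 0)
      else if k = a.j then (if l = a.i then A 1 0 else if l = a.j then A 1 1 else 0)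
      else if k = l then 1 else 0 := by
  have h := a.blockMat_mul_apply A 1 k l
  rw [Matrix.mul_one] at h
  rw [h]
  have := a.ne
  have := a.ne.symm
  simp only [Matrix.one_apply]
  by_cases hi : l = a.i
  · subst hi; simp [*]
  by_cases hj : l = a.j
  · subst hj; simp [*]
  simp [Ne.symm hi, Ne.symm hj, hi, hj]

/-- The rank one subgroup. -/
def emb : Matrix.SpecialLinearGroup (Fin 2) F →* Matrix.SpecialLinearGroup (Fin n) F where
  toFun A := ⟨a.blockMat A.1, by rw [blockMat_det, A.2]⟩
  map_one' := Subtype.ext (by simpa using a.blockMat_one)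
  map_mul' A B := Subtype.ext (a.blockMat_mul A.1 B.1)

theorem coe_emb (A : Matrix.SpecialLinearGroup (Fin 2) F) :
    (a.emb A : Matrix (Fin n) (Fin n) F) = a.blockMat (A : Matrix (Fin 2) (Fin 2) F) := rfl

/-- The labelling with the one block at the two indices. -/
abbrev lbl : Fin n → ℕ := pairBlock (n := n) (a.i : ℕ)

theorem lbl_i_eq_j : a.lbl a.i = a.lbl a.j := by
  have := a.next
  simp only [lbl, pairBlock]
  split_ifs <;> omega

theorem lbl_eq {k l : Fin n} (h : a.lbl k = a.lbl l) :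
    k = l ∨ (k = a.i ∧ l = a.j) ∨ (k = a.j ∧ l = a.i) := by
  have := a.next
  rcases pairBlock_eq h with h | ⟨h1, h2⟩ | ⟨h1, h2⟩
  · exact Or.inl h
  · exact Or.inr (Or.inl ⟨Fin.ext h1, Fin.ext (by omega)⟩)
  · exact Or.inr (Or.inr ⟨Fin.ext (by omega), Fin.ext h2⟩)

theorem emb_mem_tri (A : Matrix.SpecialLinearGroup (Fin 2) F) :
    Matrix.SpecialLinearGroup.toGL (a.emb A) ∈ triGroup a.lbl := by
  intro k l hlk
  show (a.emb A : Matrix (Fin n) (Fin n) F) k l = 0
  rw [coe_emb, blockMat_apply]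
  have := a.lbl_i_eq_j
  split_ifs <;> subst_vars <;> first | rfl | omega

end Adj

section Radical

variable (b : Fin n → ℕ)

/-- Matrices that are zero outside the strict block upper part. -/
def IsStrict (N : Matrix (Fin n) (Fin n) F) : Prop := ∀ k l, b l ≤ b k → N k l = 0

theorem IsStrict.mul_left {N g : Matrix (Fin n) (Fin n) F} (hN : IsStrict b N)
    (hg : g.BlockTriangular b) : IsStrict b (g * N) := by
  intro k l h
  rw [Matrix.mul_apply]
  refine Finset.sum_eq_zero fun m _ => ?_
  rcases lt_or_ge (b m) (b k) with hm | hm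
  · rw [hg hm, zero_mul]
  · rw [hN m l (h.trans hm), mul_zero]

theorem IsStrict.mul_right {N g : Matrix (Fin n) (Fin n) F} (hN : IsStrict b N)
    (hg : g.BlockTriangular b) : IsStrict b (N * g) := by
  intro k l h
  rw [Matrix.mul_apply]
  refine Finset.sum_eq_zero fun m _ => ?_
  rcases lt_or_ge (b l) (b m) with hm | hm
  · rw [hg hm, mul_zero]
  · rw [hN k m (hm.trans h), zero_mul]

theorem IsStrict.blockTriangular {N : Matrix (Fin n) (Fin n) F} (hN : IsStrict b N) :
    N.BlockTriangular b := fun k l h => hN k l h.le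

variable [Finite F]

/-- The radical attached to a labelling. -/
def rad : Subgroup (Matrix.SpecialLinearGroup (Fin n) F) where
  carrier := {g | IsStrict b ((g : Matrix (Fin n) (Fin n) F) - 1)}
  one_mem' := fun k l _ => by simp
  mul_mem' := fun {g h} hg hh k l hkl => by
    have e : ((g * h : Matrix.SpecialLinearGroup (Fin n) F) : Matrix (Fin n) (Fin n) F) - 1 =
        ((g : Matrix (Fin n) (Fin n) F) - 1) * ((h : Matrix (Fin n) (Fin n) F) - 1) +
          (((g : Matrix (Fin n) (Fin n) F) - 1) + ((h : Matrix (Fin n) (Fin n) F) - 1)) := by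
      rw [Matrix.SpecialLinearGroup.coe_mul]
      noncomm_ring
    rw [e, Matrix.add_apply, Matrix.add_apply, hg k l hkl, hh k l hkl,
      (IsStrict.mul_right b hg (IsStrict.blockTriangular b hh)) k l hkl]
    simp
  inv_mem' := fun {g} hg => by
    have hpow : ∀ m : ℕ, IsStrict b (((g ^ m : Matrix.SpecialLinearGroup (Fin n) F) :
        Matrix (Fin n) (Fin n) F) - 1) := by
      intro m
      induction m with
      | zero => intro k l _; simp
      | succ m ih =>
        intro k l hkl
        have e : ((g ^ (m + 1) : Matrix.SpecialLinearGroup (Fin n) F) : Matrix (Fin n) (Fin n) F) - 1 =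
            (((g ^ m : Matrix.SpecialLinearGroup (Fin n) F) : Matrix (Fin n) (Fin n) F) - 1) *
              ((g : Matrix (Fin n) (Fin n) F) - 1) +
            ((((g ^ m : Matrix.SpecialLinearGroup (Fin n) F) : Matrix (Fin n) (Fin n) F) - 1) +
              ((g : Matrix (Fin n) (Fin n) F) - 1)) := by
          rw [pow_succ, Matrix.SpecialLinearGroup.coe_mul]
          noncomm_ring
        rw [e, Matrix.add_apply, Matrix.add_apply, ih k l hkl, hg k l hkl,
          (IsStrict.mul_right b ih (IsStrict.blockTriangular b hg)) k l hkl]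
        simp
    have h := hpow (orderOf g - 1)
    have : Finite (Matrix.SpecialLinearGroup (Fin n) F) := Finite.of_injective _ Subtype.val_injective
    have e : g⁻¹ = g ^ (orderOf g - 1) := by
      refine inv_eq_of_mul_eq_one_right ?_
      rw [← pow_succ', Nat.sub_add_cancel (orderOf_pos g), pow_orderOf_eq_one]
    rw [← e] at h
    exact h

theorem mem_rad {g : Matrix.SpecialLinearGroup (Fin n) F} :
    g ∈ rad b ↔ ∀ k l, b l ≤ b k → (g : Matrix (Fin n) (Fin n) F) k l = (1 : Matrix (Fin n) (Fin n) F) k l := by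
  refine forall_congr' fun k => forall_congr' fun l => imp_congr_right fun _ => ?_
  rw [Matrix.sub_apply, sub_eq_zero]

theorem rad_conj {g u : Matrix.SpecialLinearGroup (Fin n) F}
    (hg : Matrix.SpecialLinearGroup.toGL g ∈ triGroup b) (hu : u ∈ rad b) :
    g * u * g⁻¹ ∈ rad b := by
  have hgi := inv_mem hg
  rw [← map_inv] at hgi
  have h1 : (g : Matrix (Fin n) (Fin n) F).BlockTriangular b := hg
  have h2 : ((g⁻¹ : Matrix.SpecialLinearGroup (Fin n) F) : Matrix (Fin n) (Fin n) F).BlockTriangular b := hgi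
  have e1 : (g : Matrix (Fin n) (Fin n) F) * (g⁻¹ : Matrix.SpecialLinearGroup (Fin n) F) = 1 := by
    rw [← Matrix.SpecialLinearGroup.coe_mul, mul_inv_cancel, Matrix.SpecialLinearGroup.coe_one]
  have e : ((g * u * g⁻¹ : Matrix.SpecialLinearGroup (Fin n) F) : Matrix (Fin n) (Fin n) F) - 1 =
      (g : Matrix (Fin n) (Fin n) F) * ((u : Matrix (Fin n) (Fin n) F) - 1) *
        (g⁻¹ : Matrix.SpecialLinearGroup (Fin n) F) := by
    rw [Matrix.mul_sub, Matrix.sub_mul, Matrix.mul_one, e1, Matrix.SpecialLinearGroup.coe_mul,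
      Matrix.SpecialLinearGroup.coe_mul]
  show IsStrict b _
  rw [e]
  exact IsStrict.mul_right b (IsStrict.mul_left b hu h1) h2

end Radical

variable [Finite F]

/-- The unitriangular subgroup of `SL n`. -/
noncomputable abbrev slU (n : ℕ) (F : Type*) [Field F] [Finite F] :
    Subgroup (Matrix.SpecialLinearGroup (Fin n) F) := (linearDatum n F).U

theorem mem_slU {g : Matrix.SpecialLinearGroup (Fin n) F} :
    g ∈ slU n F ↔ (g : Matrix (Fin n) (Fin n) F).BlockTriangular id ∧
      ∀ k, (g : Matrix (Fin n) (Fin n) F) k k = 1 := mem_uni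

theorem rad_le_slU {b : Fin n → ℕ} (hb : Monotone b) : rad b ≤ slU n F := by
  intro g hg
  rw [mem_rad] at hg
  refine mem_slU.mpr ⟨fun k l hlk => ?_, fun k => ?_⟩
  · rw [hg k l (hb (le_of_lt hlk))]
    exact Matrix.one_apply_ne (ne_of_gt hlk)
  · rw [hg k k le_rfl, Matrix.one_apply_eq]

theorem emb_sx_mem (a : Adj n) (s : F) : a.emb (sx s) ∈ slU n F := by
  have hnext := a.next
  refine mem_slU.mpr ⟨fun k l hlk => ?_, fun k => ?_⟩
  · have hlk' : (l : ℕ) < (k : ℕ) := hlk
    rw [Adj.coe_emb, Adj.blockMat_apply, coe_sx]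
    split_ifs <;> subst_vars <;> first | rfl | omega | simp
  · rw [Adj.coe_emb, Adj.blockMat_apply, coe_sx]
    have := a.ne
    have := a.ne.symm
    split_ifs <;> simp_all

/-- A unitriangular element is a root element times an element of the radical. -/
theorem sx_mul_mem_rad (a : Adj n) {u : Matrix.SpecialLinearGroup (Fin n) F} (hu : u ∈ slU n F) :
    a.emb (sx (-(u : Matrix (Fin n) (Fin n) F) a.i a.j)) * u ∈ rad a.lbl := by
  obtain ⟨ht, hd⟩ := mem_slU.mp hu
  refine (mem_rad _).mpr fun k l hkl => ?_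
  rw [Matrix.SpecialLinearGroup.coe_mul, Adj.coe_emb, Adj.blockMat_mul_apply, coe_sx]
  have hnext := a.next
  have hii := hd a.i
  have hjj := hd a.j
  have hji : (u : Matrix (Fin n) (Fin n) F) a.j a.i = 0 := ht (show (a.i : ℕ) < (a.j : ℕ) by omega)
  rcases lt_trichotomy (l : ℕ) (k : ℕ) with hlt | heq | hgt
  · have h0 : (u : Matrix (Fin n) (Fin n) F) k l = 0 := ht hlt
    rw [Matrix.one_apply_ne (Fin.ne_of_gt hlt)]
    by_cases hi : k = a.i
    · subst hi
      have h1 : (u : Matrix (Fin n) (Fin n) F) a.j l = 0 := ht (show (l : ℕ) < (a.j : ℕ) by omega)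
      simp [h0, h1]
    by_cases hj : k = a.j
    · subst hj
      simp [h0, hi]
    simp [hi, hj, h0]
  · obtain rfl : l = k := Fin.ext heq
    rw [Matrix.one_apply_eq]
    by_cases hi : l = a.i
    · subst hi; simp [hji, hii]
    by_cases hj : l = a.j
    · subst hj; simp [hi, hjj]
    simp [hi, hj, hd]
  · rw [Matrix.one_apply_ne (Fin.ne_of_lt hgt)]
    have hle : a.lbl k = a.lbl l := le_antisymm (pairBlock_mono _ (le_of_lt hgt)) hkl
    rcases a.lbl_eq hle with h | ⟨rfl, rfl⟩ | ⟨rfl, rfl⟩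
    · subst h; omega
    · simp [hjj]
    · omega

theorem emb_sx_mul_apply (a : Adj n) (s : F) {u : Matrix.SpecialLinearGroup (Fin n) F}
    (hu : u ∈ rad a.lbl) :
    ((a.emb (sx s) * u : Matrix.SpecialLinearGroup (Fin n) F) : Matrix (Fin n) (Fin n) F) a.i a.j = s := by
  rw [mem_rad] at hu
  rw [Matrix.SpecialLinearGroup.coe_mul, Adj.coe_emb, Adj.blockMat_mul_apply, coe_sx,
    hu a.i a.j a.lbl_i_eq_j.ge, hu a.j a.j le_rfl, Matrix.one_apply_eq, Matrix.one_apply_ne a.ne]
  simp

/-- The unitriangular group splits over a radical. -/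
theorem card_slU_eq (a : Adj n) :
    Nat.card (slU n F) = Nat.card F * Nat.card (rad (F := F) a.lbl) := by
  rw [← Nat.card_prod]
  refine (Nat.card_eq_of_bijective
    (fun x : F × rad (F := F) a.lbl => (⟨a.emb (sx x.1) * x.2,
      mul_mem (emb_sx_mem a x.1) (rad_le_slU (pairBlock_mono _) x.2.2)⟩ : slU n F)) ⟨?_, ?_⟩).symm
  · rintro ⟨s, u⟩ ⟨t, v⟩ h
    have h' : a.emb (sx s) * (u : Matrix.SpecialLinearGroup (Fin n) F) = a.emb (sx t) * v :=
      congrArg Subtype.val h
    have hst : s = t := by rw [← emb_sx_mul_apply a s u.2, h', emb_sx_mul_apply a t v.2]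
    subst hst
    exact Prod.ext rfl (Subtype.ext (mul_left_cancel h'))
  · intro u
    refine ⟨⟨(u : Matrix.SpecialLinearGroup (Fin n) F).1 a.i a.j, ⟨_, sx_mul_mem_rad a u.2⟩⟩, Subtype.ext ?_⟩
    show a.emb _ * (a.emb _ * _) = _
    rw [← mul_assoc, ← map_mul, sx_add, add_neg_cancel, sx_zero, map_one, one_mul]

theorem bor_conj_slU {u β : GL (Fin n) F} (hu : u ∈ uni n F) (hβ : β ∈ bor n F) :
    β⁻¹ * u * β ∈ uni n F := by
  obtain ⟨ht, hd⟩ := mem_uni.mp hu
  have hm : β⁻¹ * u * β ∈ bor n F := mul_mem (mul_mem (inv_mem hβ) ht) hβ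
  refine mem_uni.mpr ⟨hm, fun k => ?_⟩
  have hi : β⁻¹ ∈ bor n F := inv_mem hβ
  rw [Units.val_mul, Units.val_mul, bor_diag_mul (Matrix.BlockTriangular.mul hi ht) hβ,
    bor_diag_mul hi ht, hd, mul_one, ← bor_diag_mul hi hβ, ← Units.val_mul, inv_mul_cancel,
    Units.val_one, Matrix.one_apply_eq]

/-- A permutation pulls one of the two root groups into the unitriangular group. -/
theorem perm_conj_root (a : Adj n) (w : Equiv.Perm (Fin n))
    {g : Matrix.SpecialLinearGroup (Fin n) F} {β : GL (Fin n) F} (hβ : β ∈ bor n F)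
    (hg : Matrix.SpecialLinearGroup.toGL g = permGL n F w * β) :
    (∀ s : F, g⁻¹ * a.emb (sx s) * g ∈ slU n F) ∨
      ∀ s : F, g⁻¹ * a.emb (sw * sx s * sw⁻¹) * g ∈ slU n F := by
  have hconj : ∀ A : Matrix.SpecialLinearGroup (Fin 2) F,
      (∀ k, a.blockMat (A : Matrix (Fin 2) (Fin 2) F) k k = 1) →
      (∀ k l : Fin n, (w⁻¹ l : ℕ) < (w⁻¹ k : ℕ) → a.blockMat (A : Matrix (Fin 2) (Fin 2) F) k l = 0) →
      g⁻¹ * a.emb A * g ∈ slU n F := by
    intro A hdiag hoff
    have hP : (permGL n F w)⁻¹ * Matrix.SpecialLinearGroup.toGL (a.emb A) * permGL n F w ∈ uni n F := by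
      have he : (permGL n F w)⁻¹ * Matrix.SpecialLinearGroup.toGL (a.emb A) * permGL n F w =
          permGL n F w⁻¹ * Matrix.SpecialLinearGroup.toGL (a.emb A) * (permGL n F w⁻¹)⁻¹ := by
        rw [map_inv, inv_inv]
      rw [he]
      refine mem_uni.mpr ⟨fun k l hkl => ?_, fun k => ?_⟩
      · rw [conj_permGL_apply]
        show a.blockMat _ _ _ = 0
        refine hoff _ _ ?_
        simpa using hkl
      · rw [conj_permGL_apply]
        exact hdiag _
    have := bor_conj_slU hP hβ
    show Matrix.SpecialLinearGroup.toGL (g⁻¹ * a.emb A * g) ∈ uni n F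
    rw [map_mul, map_mul, map_inv, hg]
    simpa [mul_assoc] using this
  have hne : w⁻¹ a.i ≠ w⁻¹ a.j := w⁻¹.injective.ne a.ne
  have hij := a.ne
  have hji := a.ne.symm
  rcases lt_or_gt_of_ne hne with h | h
  · left
    intro s
    refine hconj _ (fun k => ?_) (fun k l hkl => ?_)
    · rw [Adj.blockMat_apply, coe_sx]; split_ifs <;> simp_all
    · have h' : (w⁻¹ a.i : ℕ) < (w⁻¹ a.j : ℕ) := h
      rw [Adj.blockMat_apply, coe_sx]
      split_ifs <;> subst_vars <;> first | rfl | omega | simp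
  · right
    intro s
    have hco : ((sw * sx s * sw⁻¹ : Matrix.SpecialLinearGroup (Fin 2) F) : Matrix (Fin 2) (Fin 2) F) =
        !![1, 0; -s, 1] := by
      rw [Matrix.SpecialLinearGroup.coe_mul, Matrix.SpecialLinearGroup.coe_mul,
        Matrix.SpecialLinearGroup.coe_inv, coe_sw, coe_sx, Matrix.adjugate_fin_two_of]
      simp
    refine hconj _ (fun k => ?_) (fun k l hkl => ?_)
    · rw [Adj.blockMat_apply, hco]; split_ifs <;> simp_all
    · have h' : (w⁻¹ a.j : ℕ) < (w⁻¹ a.i : ℕ) := h
      rw [Adj.blockMat_apply, hco]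
      split_ifs <;> subst_vars <;> first | rfl | omega | simp

end CfsgLib.SLBlocks
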